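import Mathlib
import Cfsg.Agent.Lib.ClassSizes.TwoSizes

/-!
# Class sizes and the centralisers of the central quotient

`cI x` is the size of the class of `x` and `cQ x` the order of the image of its centraliser
modulo the centre.
-/

set_option autoImplicit false
set_option linter.all false

namespace CfsgLib.Recog.ClassSizesPSL

open Subgroup
open CfsgLib.ClassSizes

variable {G : Type*} [Group G]

/-- The size of the class of `x`. -/
noncomputable abbrev cI (x : G) : ℕ := (centralizer ({x} : Set G)).index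

/-- The order of the centraliser of `x` modulo the centre. -/
noncomputable abbrev cQ (x : G) : ℕ := (center G).relIndex (centralizer ({x} : Set G))

/-- The order of the centraliser of `x`. -/
noncomputable abbrev cC (x : G) : ℕ := Nat.card (centralizer ({x} : Set G) : Subgroup G)

/-- An element of `r`-power order. -/
def IsREl (r : ℕ) (x : G) : Prop := ∃ k : ℕ, x ^ r ^ k = 1

theorem center_le_centralizer (x : G) : center G ≤ centralizer ({x} : Set G) := fun z hz =>
  mem_centralizer_singleton_iff.2 (mem_center_iff.1 hz x).symm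

theorem cQ_mul_cI (x : G) : cQ x * cI x = (center G).index :=
  relIndex_mul_index (center_le_centralizer x)

theorem cI_dvd {x y : G} (h : centralizer ({x} : Set G) ≤ centralizer ({y} : Set G)) :
    cI y ∣ cI x :=
  index_dvd_of_le h

theorem cI_eq_one_iff [Finite G] {x : G} : cI x = 1 ↔ x ∈ center G := TwoSizes.index_one_iff

theorem eq_of_le_of_cI_eq [Finite G] {x y : G}
    (h : centralizer ({x} : Set G) ≤ centralizer ({y} : Set G)) (he : cI x = cI y) :
    centralizer ({x} : Set G) = centralizer ({y} : Set G) := by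
  refine eq_of_le_of_card_ge h (le_of_eq ?_)
  have h1 := (centralizer ({x} : Set G)).index_mul_card
  have h2 := (centralizer ({y} : Set G)).index_mul_card
  have h3 : (centralizer ({x} : Set G)).index = (centralizer ({y} : Set G)).index := he
  rw [h3, ← h2] at h1
  exact (Nat.eq_of_mul_eq_mul_left
    (Nat.pos_of_ne_zero (Subgroup.index_ne_zero_of_finite)) h1).symm

theorem centralizer_conj (g x : G) :
    centralizer ({g * x * g⁻¹} : Set G) =
      (centralizer ({x} : Set G)).map (MulAut.conj g).toMonoidHom := by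
  ext h
  simp only [mem_centralizer_singleton_iff, mem_map, MulEquiv.coe_toMonoidHom, MulAut.conj_apply]
  constructor
  · intro hh
    refine ⟨g⁻¹ * h * g, ?_, by group⟩
    calc g⁻¹ * h * g * x = g⁻¹ * (h * (g * x * g⁻¹)) * g := by group
      _ = g⁻¹ * (g * x * g⁻¹ * h) * g := by rw [hh]
      _ = x * (g⁻¹ * h * g) := by group
  · rintro ⟨k, hk, rfl⟩
    calc g * k * g⁻¹ * (g * x * g⁻¹) = g * (k * x) * g⁻¹ := by group
      _ = g * (x * k) * g⁻¹ := by rw [hk]
      _ = g * x * g⁻¹ * (g * k * g⁻¹) := by group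

theorem cC_conj (g x : G) : cC (g * x * g⁻¹) = cC x := by
  unfold cC
  rw [centralizer_conj]
  exact Nat.card_congr
    ((centralizer ({x} : Set G)).equivMapOfInjective _ (MulAut.conj g).injective).toEquiv.symm

theorem cI_conj (g x : G) : cI (g * x * g⁻¹) = cI x := by
  unfold cI
  rw [centralizer_conj]
  exact index_map_equiv _ (MulAut.conj g)

theorem centralizer_mul_central {z : G} (hz : z ∈ center G) (x : G) :
    centralizer ({x * z} : Set G) = centralizer ({x} : Set G) := by
  ext h
  simp only [mem_centralizer_singleton_iff]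
  have h2 : h * z = z * h := mem_center_iff.1 hz h
  constructor
  · intro e
    refine mul_right_cancel (b := z) ?_
    calc h * x * z = x * z * h := by rw [mul_assoc]; exact e
      _ = x * h * z := by rw [mul_assoc, ← h2, ← mul_assoc]
  · intro e
    rw [← mul_assoc, e, mul_assoc, h2, ← mul_assoc]

theorem isREl_of_orderOf {r k : ℕ} {x : G} (h : orderOf x = r ^ k) : IsREl r x :=
  ⟨k, h ▸ pow_orderOf_eq_one x⟩

theorem IsREl.conj {r : ℕ} {x : G} (h : IsREl r x) (g : G) : IsREl r (g * x * g⁻¹) := by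
  obtain ⟨k, hk⟩ := h
  exact ⟨k, by rw [conj_pow, hk, mul_one, mul_inv_cancel]⟩

theorem IsREl.orderOf_eq {r : ℕ} (hr : r.Prime) {x : G} (h : IsREl r x) :
    ∃ k, orderOf x = r ^ k := by
  obtain ⟨k, hk⟩ := h
  obtain ⟨j, -, hj⟩ := (Nat.dvd_prime_pow hr).1 (orderOf_dvd_of_pow_eq_one hk)
  exact ⟨j, hj⟩

theorem IsREl.isPGroup_zpowers {r : ℕ} {x : G} (h : IsREl r x) : IsPGroup r (zpowers x) := by
  obtain ⟨k, hk⟩ := h
  rintro ⟨y, hy⟩
  obtain ⟨i, rfl⟩ := mem_zpowers_iff.1 hy
  exact ⟨k, Subtype.ext (by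
    push_cast
    rw [← zpow_natCast, ← zpow_mul, mul_comm, zpow_mul, zpow_natCast, hk, one_zpow])⟩

theorem IsREl.orderOf_coprime {r s : ℕ} (hr : r.Prime) (hs : s.Prime) (hrs : r ≠ s) {x y : G}
    (hx : IsREl r x) (hy : IsREl s y) : (orderOf x).Coprime (orderOf y) := by
  obtain ⟨j, hj⟩ := hx.orderOf_eq hr
  obtain ⟨k, hk⟩ := hy.orderOf_eq hs
  rw [hj, hk]
  exact Nat.Coprime.pow _ _ ((Nat.coprime_primes hr hs).2 hrs)

theorem centralizer_mul_le {x y : G} (hc : Commute x y) (hco : (orderOf x).Coprime (orderOf y)) :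
    centralizer ({x * y} : Set G) ≤ centralizer ({x} : Set G) := by
  intro g hg
  have h1 : Commute g (x * y) := mem_centralizer_singleton_iff.1 hg
  have h2 : Commute g (x ^ orderOf y) := by
    have := h1.pow_right (orderOf y)
    rwa [hc.mul_pow, pow_orderOf_eq_one y, mul_one] at this
  obtain ⟨m, hm⟩ := exists_pow_eq_self_of_coprime (x := x) hco.symm
  rw [← hm]
  exact mem_centralizer_singleton_iff.2 (h2.pow_right m)

/-- The centraliser of a product of commuting elements of coprime orders. -/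
theorem centralizer_mul {x y : G} (hc : Commute x y) (hco : (orderOf x).Coprime (orderOf y)) :
    centralizer ({x * y} : Set G) = centralizer ({x} : Set G) ⊓ centralizer ({y} : Set G) := by
  refine le_antisymm (le_inf (centralizer_mul_le hc hco) ?_) ?_
  · rw [hc.eq]; exact centralizer_mul_le hc.symm hco.symm
  · rintro g ⟨h1, h2⟩
    exact mem_centralizer_singleton_iff.2
      (Commute.mul_right (mem_centralizer_singleton_iff.1 h1) (mem_centralizer_singleton_iff.1 h2))

theorem cI_dvd_mul {x y : G} (hc : Commute x y) (hco : (orderOf x).Coprime (orderOf y)) :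
    cI x ∣ cI (x * y) ∧ cI y ∣ cI (x * y) := by
  refine ⟨cI_dvd ?_, cI_dvd ?_⟩ <;> rw [centralizer_mul hc hco]
  exacts [inf_le_left, inf_le_right]

variable [Finite G]

/-- A noncentral element has a noncentral primary component. -/
theorem exists_primary {x : G} (hx : x ∉ center G) :
    ∃ (s : ℕ) (y : G), s.Prime ∧ IsREl s y ∧ y ∈ zpowers x ∧ y ∉ center G := by
  by_contra hcon
  push Not at hcon
  exact hx (TwoSizes.mem_of_primary (center G) x fun y hy s k hs hk =>
    hcon s y hs (isREl_of_orderOf hk) hy)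

/-- A minimal class size is the size of a primary element. -/
theorem exists_primary_of_minimal {M : ℕ} (hM : M ≠ 1)
    (hmin : ∀ z : G, cI z ∣ M → cI z = 1 ∨ cI z = M) {x : G} (hx : cI x = M) :
    ∃ (s : ℕ) (y : G), s.Prime ∧ IsREl s y ∧ cI y = M := by
  obtain ⟨s, y, hs, hy, hyx, hyc⟩ := exists_primary (x := x)
    (fun h => hM (hx ▸ cI_eq_one_iff.2 h))
  refine ⟨s, y, hs, hy, (hmin y ?_).resolve_left fun h => hyc (cI_eq_one_iff.1 h)⟩
  exact hx ▸ cI_dvd (TwoSizes.centralizer_le_of_mem hyx)

theorem exists_sylow_le {r : ℕ} [Fact r.Prime] {H : Subgroup G} (h : ¬ r ∣ H.index) :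
    ∃ R : Sylow r G, (R : Subgroup G) ≤ H := by
  obtain ⟨P⟩ := (inferInstance : Nonempty (Sylow r H))
  have h1 : IsPGroup r ((P : Subgroup H).map H.subtype) := P.2.map _
  refine ⟨h1.toSylow ?_, ?_⟩
  · rw [index_map_subtype]
    exact (Fact.out : r.Prime).not_dvd_mul P.not_dvd_index h
  · exact map_subtype_le _

/-- If all the sizes that are multiples of the minimal size `M`, prime to `r`, divide `M'`, every
noncentral `r`-element commutes with one whose size divides `M'`. -/
theorem exists_companion {r s M M' : ℕ} (hr : r.Prime) (hs : s.Prime) (hrM : ¬ r ∣ M) {x : G}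
    (hxs : IsREl s x) (hx : cI x = M) (hM : M ≠ 1)
    (hmax : ∀ z : G, M ∣ cI z → cI z ∣ M') {y : G} (hy : IsREl r y) (hyc : y ∉ center G) :
    ∃ z, IsREl r z ∧ Commute y z ∧ z ∉ center G ∧ cI z ∣ M' := by
  haveI := Fact.mk hr
  obtain ⟨R, hR⟩ := exists_sylow_le (r := r) (H := centralizer ({x} : Set G))
    (show ¬ r ∣ cI x by rw [hx]; exact hrM)
  obtain ⟨P, hP⟩ := hy.isPGroup_zpowers.exists_le_sylow
  obtain ⟨g, hg⟩ := MulAction.exists_smul_eq G P R
  have hyR : g * y * g⁻¹ ∈ (R : Subgroup G) := by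
    rw [← hg, Sylow.coe_subgroup_smul, mem_pointwise_smul_iff_inv_smul_mem]
    rw [show (MulAut.conj g)⁻¹ • (g * y * g⁻¹) = y from by
      rw [MulAut.smul_def, MulAut.conj_inv_apply]; group]
    exact hP (mem_zpowers y)
  have hxy : Commute x (g * y * g⁻¹) := (mem_centralizer_singleton_iff.1 (hR hyR)).symm
  by_cases hrs : r = s
  · subst hrs
    refine ⟨g⁻¹ * x * g, by simpa using hxs.conj g⁻¹, ?_, ?_, ?_⟩
    · have := hxy.symm.map (MulAut.conj g⁻¹).toMonoidHom
      simpa [mul_assoc] using this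
    · intro h
      refine hM (hx ▸ cI_eq_one_iff.2 ?_)
      have := (inferInstance : (center G).Normal).conj_mem _ h g
      simpa [mul_assoc] using this
    · rw [show g⁻¹ * x * g = g⁻¹ * x * g⁻¹⁻¹ by group, cI_conj, hx]
      exact hx ▸ hmax x (by rw [hx])
  · have hco := hxs.orderOf_coprime hs hr (Ne.symm hrs) (hy.conj g)
    obtain ⟨h1, h2⟩ := cI_dvd_mul hxy hco
    refine ⟨y, hy, Commute.refl y, hyc, ?_⟩
    rw [← cI_conj g y]
    exact h2.trans (hmax _ (hx ▸ h1))

/-- If `A` is an isolated size and every noncentral `r`-element commutes with one whose size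
divides `M'`, not a multiple of `A`, the centraliser of an `s`-element of size `A` contains no
noncentral `r`-element. -/
theorem mem_center_of_isolated {r s A M' : ℕ} (hr : r.Prime) (hs : s.Prime) (hrs : r ≠ s)
    (hmax : ∀ z : G, A ∣ cI z → cI z = A) (hmin : ∀ z : G, cI z ∣ A → cI z = 1 ∨ cI z = A)
    (hA : ¬ A ∣ M') (hcomp : ∀ y : G, IsREl r y → y ∉ center G →
      ∃ z, IsREl r z ∧ Commute y z ∧ z ∉ center G ∧ cI z ∣ M')
    {x : G} (hxs : IsREl s x) (hx : cI x = A) {y : G} (hy : IsREl r y)
    (hyx : y ∈ centralizer ({x} : Set G)) : y ∈ center G := by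
  have key : ∀ a : G, IsREl r a → a ∈ centralizer ({x} : Set G) → a ∉ center G →
      cI a = A ∧ centralizer ({a} : Set G) = centralizer ({x} : Set G) := by
    intro a ha hax hac
    have hc : Commute x a := (mem_centralizer_singleton_iff.1 hax).symm
    have hco := hxs.orderOf_coprime hs hr (Ne.symm hrs) ha
    obtain ⟨h1, h2⟩ := cI_dvd_mul hc hco
    have h3 : cI (x * a) = A := hmax _ (hx ▸ h1)
    have ha' : cI a = A := (hmin a (h3 ▸ h2)).resolve_left fun h => hac (cI_eq_one_iff.1 h)
    refine ⟨ha', ?_⟩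
    rw [← eq_of_le_of_cI_eq (centralizer_mul_le hc hco) (h3.trans hx.symm),
      centralizer_mul hc hco]
    refine eq_comm.1 (eq_of_le_of_card_ge inf_le_right (le_of_eq ?_))
    rw [← centralizer_mul hc hco]
    have h4 := (centralizer ({x * a} : Set G)).index_mul_card
    have h5 := (centralizer ({a} : Set G)).index_mul_card
    have h6 : (centralizer ({x * a} : Set G)).index = (centralizer ({a} : Set G)).index :=
      h3.trans ha'.symm
    rw [h6, ← h5] at h4
    exact (Nat.eq_of_mul_eq_mul_left (Nat.pos_of_ne_zero (Subgroup.index_ne_zero_of_finite)) h4).symm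
  by_contra hyc
  obtain ⟨-, hCy⟩ := key y hy hyx hyc
  obtain ⟨z, hz, hyz, hzc, hzM⟩ := hcomp y hy hyc
  have hzx : z ∈ centralizer ({x} : Set G) := by
    rw [← hCy]; exact mem_centralizer_singleton_iff.2 hyz.symm
  exact hA ((key z hz hzx hzc).1 ▸ hzM)

omit [Finite G] in
/-- Elements of prime power order lift to elements of prime power order. -/
theorem exists_lift_rEl [Finite G] {H : Type*} [Group H] {φ : G →* H} {r k : ℕ} (hr : r.Prime)
    {g : G} (h : (φ g) ^ r ^ k = 1) : ∃ y ∈ zpowers g, φ y = φ g ∧ IsREl r y := by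
  obtain ⟨a, m, hm, ha⟩ := Nat.exists_eq_pow_mul_and_not_dvd (orderOf_pos g).ne' r hr.ne_one
  have hco : (m : ℕ).Coprime (orderOf (φ g)) :=
    ((Nat.Coprime.pow_left k ((Nat.Prime.coprime_iff_not_dvd hr).2 hm)).symm).coprime_dvd_right
      (orderOf_dvd_of_pow_eq_one h)
  obtain ⟨j, hj⟩ := exists_pow_eq_self_of_coprime hco
  refine ⟨(g ^ m) ^ j, pow_mem (npow_mem_zpowers g m) j, by rw [map_pow, map_pow, hj], a, ?_⟩
  rw [← pow_mul, ← pow_mul, show m * (j * r ^ a) = r ^ a * m * j by ring, ← ha, pow_mul,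
    pow_orderOf_eq_one, one_pow]

theorem not_dvd_cQ {r : ℕ} (hr : r.Prime) {x : G}
    (h : ∀ y : G, IsREl r y → y ∈ centralizer ({x} : Set G) → y ∈ center G) : ¬ r ∣ cQ x := by
  intro hd
  haveI := Fact.mk hr
  haveI : ((center G).subgroupOf (centralizer ({x} : Set G))).Normal := inferInstance
  obtain ⟨c, hc⟩ := exists_prime_orderOf_dvd_card'
    (G := (centralizer ({x} : Set G)) ⧸ (center G).subgroupOf (centralizer ({x} : Set G))) r hd
  obtain ⟨g, rfl⟩ := QuotientGroup.mk'_surjective _ c
  obtain ⟨y, -, hy, hyr⟩ := exists_lift_rEl (φ := QuotientGroup.mk' _) (k := 1) hr (g := g)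
    (by rw [pow_one, ← hc, pow_orderOf_eq_one])
  obtain ⟨k, hk⟩ := hyr
  have hyc : (y : G) ∈ center G := h _ ⟨k, by
    have := congrArg Subtype.val hk; simpa using this⟩ y.2
  rw [← hy, QuotientGroup.mk'_apply, (QuotientGroup.eq_one_iff y).2 (mem_subgroupOf.2 hyc),
    orderOf_one] at hc
  exact hr.ne_one hc.symm

/-- The centraliser of an element of the central quotient. -/
theorem exists_cC_mk (g : G) : ∃ j, cC (QuotientGroup.mk' (center G) g) = cQ g * j ∧
    ∀ s : ℕ, s.Prime → s ∣ j → s ∣ orderOf (QuotientGroup.mk' (center G) g) := by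
  set π := QuotientGroup.mk' (center G) with hπ
  set E : Subgroup G := (centralizer ({π g} : Set (G ⧸ center G))).comap π with hE
  have hmem : ∀ h : E, (h : G) * g * (h : G)⁻¹ * g⁻¹ ∈ center G := by
    intro h
    rw [← QuotientGroup.eq_one_iff (N := center G)]
    have hh : π (h : G) * π g = π g * π (h : G) := mem_centralizer_singleton_iff.1 h.2
    show π ((h : G) * g * (h : G)⁻¹ * g⁻¹) = 1
    rw [map_mul, map_mul, map_mul, hh, map_inv, map_inv]
    group
  let φ : E →* center G := MonoidHom.mk' (fun h => ⟨_, hmem h⟩) fun a b => Subtype.ext (by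
    have hb := mem_center_iff.1 (hmem b)
    show (a : G) * b * g * ((a : G) * b)⁻¹ * g⁻¹ =
      (a : G) * g * (a : G)⁻¹ * g⁻¹ * ((b : G) * g * (b : G)⁻¹ * g⁻¹)
    calc (a : G) * b * g * ((a : G) * b)⁻¹ * g⁻¹
        = (a : G) * ((b : G) * g * (b : G)⁻¹ * g⁻¹) * g * (a : G)⁻¹ * g⁻¹ := by group
      _ = (b : G) * g * (b : G)⁻¹ * g⁻¹ * ((a : G) * g * (a : G)⁻¹ * g⁻¹) := by
          rw [hb (a : G)]; group
      _ = _ := (hb _).symm)
  have hCE : centralizer ({g} : Set G) ≤ E := fun h hh => mem_centralizer_singleton_iff.2 (by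
    rw [← map_mul, ← map_mul, mem_centralizer_singleton_iff.1 hh])
  have hker : φ.ker = (centralizer ({g} : Set G)).subgroupOf E := by
    ext h
    rw [MonoidHom.mem_ker, mem_subgroupOf, mem_centralizer_singleton_iff, Subtype.ext_iff]
    show (h : G) * g * (h : G)⁻¹ * g⁻¹ = 1 ↔ _
    rw [mul_inv_eq_one, mul_inv_eq_iff_eq_mul]
  refine ⟨(centralizer ({g} : Set G)).relIndex E, ?_, ?_⟩
  · show _ = (center G).relIndex _ * _
    rw [relIndex_mul_relIndex _ _ _ (center_le_centralizer g) hCE]
    have h1 := relIndex_comap (f := π) (⊥ : Subgroup (G ⧸ center G)) E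
    rw [MonoidHom.comap_bot, QuotientGroup.ker_mk', relIndex_bot_left, hE,
      map_comap_eq_self_of_surjective (QuotientGroup.mk'_surjective _)] at h1
    exact h1.symm
  · intro s hs hsd
    haveI := Fact.mk hs
    rw [relIndex, ← hker, index_ker] at hsd
    obtain ⟨⟨c, h, rfl⟩, hc⟩ := exists_prime_orderOf_dvd_card' s hsd
    rw [← orderOf_coe] at hc
    have hh : (φ h : G) = (h : G) * g * (h : G)⁻¹ * g⁻¹ := rfl
    have hpow : ((φ h : G)) ^ orderOf (π g) = 1 := by
      have hg : g ^ orderOf (π g) ∈ center G := by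
        rw [← QuotientGroup.eq_one_iff (N := center G)]
        exact (map_pow π g _).trans (pow_orderOf_eq_one _)
      rw [← TwoSizes.comm_pow_right (a := (h : G)) (y := g) hh.symm (φ h).2,
        mem_center_iff.1 hg (h : G)]
      group
    rw [← hc]
    exact orderOf_dvd_of_pow_eq_one (Subtype.ext hpow)

theorem orderOf_mk_dvd_cQ (g : G) : orderOf (QuotientGroup.mk' (center G) g) ∣ cQ g := by
  refine orderOf_dvd_of_pow_eq_one ?_
  rw [← map_pow, QuotientGroup.mk'_apply, QuotientGroup.eq_one_iff]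
  haveI : ((center G).subgroupOf (centralizer ({g} : Set G))).Normal := inferInstance
  exact mem_subgroupOf.1 (pow_index_mem ((center G).subgroupOf (centralizer ({g} : Set G)))
    ⟨g, mem_centralizer_singleton_iff.2 rfl⟩)

/-- If the centralisers of `G` cover those of the quotient, commuting images lift to commuting
elements. -/
theorem commute_of_cC_eq (h : ∀ g : G, cC (QuotientGroup.mk' (center G) g) = cQ g) {g k : G}
    (hk : g * k * g⁻¹ * k⁻¹ ∈ center G) : Commute g k := by
  set π := QuotientGroup.mk' (center G) with hπ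
  have hle : (centralizer ({k} : Set G)).map π ≤ centralizer ({π k} : Set (G ⧸ center G)) := by
    rintro _ ⟨a, ha, rfl⟩
    exact mem_centralizer_singleton_iff.2 (by rw [← map_mul, ← map_mul,
      mem_centralizer_singleton_iff.1 ha])
  have heq : (centralizer ({k} : Set G)).map π = centralizer ({π k} : Set (G ⧸ center G)) := by
    refine eq_of_le_of_card_ge hle (le_of_eq ?_)
    show cC (π k) = _
    have h1 := relIndex_map_map (f := π) (⊥ : Subgroup G) (centralizer ({k} : Set G))
    rw [Subgroup.map_bot, relIndex_bot_left] at h1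
    rw [h k, h1, bot_sup_eq, QuotientGroup.ker_mk', sup_of_le_left (center_le_centralizer k)]
  have hg : π g ∈ (centralizer ({k} : Set G)).map π := by
    rw [heq, mem_centralizer_singleton_iff]
    have h1 : π (g * k * g⁻¹ * k⁻¹) = 1 := (QuotientGroup.eq_one_iff _).2 hk
    rwa [map_mul, map_mul, map_mul, map_inv, map_inv, mul_inv_eq_one, mul_inv_eq_iff_eq_mul] at h1
  obtain ⟨a, ha, hag⟩ := hg
  have h2 : a⁻¹ * g ∈ centralizer ({k} : Set G) := center_le_centralizer k (by
    rw [← QuotientGroup.eq_one_iff (N := center G)]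
    show π (a⁻¹ * g) = 1
    rw [map_mul, map_inv, hag, inv_mul_cancel])
  have h3 := mul_mem ha h2
  rw [mul_inv_cancel_left] at h3
  exact mem_centralizer_singleton_iff.1 h3

end CfsgLib.Recog.ClassSizesPSL
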