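import Cfsg.Agent.Lib.Recog.ClassSizesPSL.Basic
import Cfsg.Agent.Lib.Orders.OrderConjugate
import Cfsg.Agent.Lib.Signalizer.Involutions

/-!
# Counting lemmas: classes of a given centraliser order, inverting involutions
-/

set_option autoImplicit false
set_option linter.all false

namespace CfsgLib.Recog.ClassSizesPSL

open Subgroup Finset
open CfsgLib.Signalizer (involution_sq involution_inv involution_ne_one orderOf_eq_two_of)

variable {L : Type*} [Group L] [Fintype L] [DecidableEq L]

/-- The nontrivial elements with centraliser of order `c`. -/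
noncomputable def cSet (L : Type*) [Group L] [Fintype L] [DecidableEq L] (c : ℕ) : Finset L :=
  univ.filter fun x => x ≠ 1 ∧ cC x = c

theorem mem_cSet {c : ℕ} {x : L} : x ∈ cSet L c ↔ x ≠ 1 ∧ cC x = c := by simp [cSet]

/-- The involutions. -/
noncomputable def invol (L : Type*) [Group L] [Fintype L] [DecidableEq L] : Finset L :=
  univ.filter fun x => orderOf x = 2

theorem mem_invol {x : L} : x ∈ invol L ↔ orderOf x = 2 := by simp [invol]

theorem conj_mem_invol {x : L} (g : L) (h : x ∈ invol L) : g * x * g⁻¹ ∈ invol L := by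
  rw [mem_invol] at h ⊢
  rw [CfsgLib.Signalizer.orderOf_conj, h]

theorem conj_mem_cSet {c : ℕ} {x : L} (g : L) (h : x ∈ cSet L c) : g * x * g⁻¹ ∈ cSet L c := by
  rw [mem_cSet] at h ⊢
  exact ⟨fun e => h.1 (conj_eq_one_iff.1 e), by rw [cC_conj, h.2]⟩

/-- A conjugacy invariant set with constant centraliser order is a union of classes of one size. -/
theorem exists_card_mul_eq {c : ℕ} (S : Finset L) (hinv : ∀ (g : L), ∀ x ∈ S, g * x * g⁻¹ ∈ S)
    (hc : ∀ x ∈ S, cC x = c) : ∃ m, c * S.card = m * Nat.card L := by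
  classical
  refine ⟨(S.image ConjClasses.mk).card, ?_⟩
  rw [card_eq_sum_card_image ConjClasses.mk S, mul_sum, ← smul_eq_mul (_ : ℕ) (Nat.card L),
    ← sum_const]
  refine sum_congr rfl fun C hC => ?_
  obtain ⟨x, hx, rfl⟩ := mem_image.1 hC
  have h1 : (S.filter fun y => ConjClasses.mk y = ConjClasses.mk x).card =
      Nat.card (ConjClasses.mk x).carrier := by
    rw [Nat.card_coe_set_eq, ← Set.ncard_coe_finset]
    congr 1
    ext y
    simp only [coe_filter, Set.mem_ofPred_eq, ConjClasses.mem_carrier_iff_mk_eq]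
    refine ⟨fun h => h.2, fun h => ⟨?_, h⟩⟩
    obtain ⟨g, hg⟩ := isConj_iff.1 (ConjClasses.mk_eq_mk_iff_isConj.1 h.symm)
    exact hg ▸ hinv g x hx
  rw [h1, CfsgLib.Orders.card_carrier_eq_index, ← hc x hx]
  exact (centralizer ({x} : Set L)).card_mul_index

theorem exists_card_cSet (c : ℕ) : ∃ m, c * (cSet L c).card = m * Nat.card L :=
  exists_card_mul_eq _ (fun g _ h => conj_mem_cSet g h) fun _ h => (mem_cSet.1 h).2

/-- The involutions inverting `g`. -/
noncomputable def inverters (g : L) : Finset L := (invol L).filter fun a => a * g ∈ invol L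

theorem mem_inverters {g a : L} : a ∈ inverters g ↔ orderOf a = 2 ∧ orderOf (a * g) = 2 := by
  simp [inverters, mem_invol]

theorem conj_eq_inv_of_mem_inverters {g a : L} (h : a ∈ inverters g) : a * g * a⁻¹ = g⁻¹ := by
  obtain ⟨ha, hag⟩ := mem_inverters.1 h
  rw [eq_inv_iff_mul_eq_one, involution_inv ha, mul_assoc (a * g) a g]
  exact involution_sq hag

theorem mul_mem_centralizer_of_mem_inverters {g a b : L} (ha : a ∈ inverters g)
    (hb : b ∈ inverters g) : a * b ∈ centralizer ({g} : Set L) := by
  have h1 := conj_eq_inv_of_mem_inverters ha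
  have h2 := conj_eq_inv_of_mem_inverters hb
  rw [mem_centralizer_singleton_iff, ← mul_inv_eq_iff_eq_mul]
  calc a * b * g * (a * b)⁻¹ = a * (b * g * b⁻¹) * a⁻¹ := by group
    _ = (a * g * a⁻¹)⁻¹ := by rw [h2]; group
    _ = g := by rw [h1, inv_inv]

theorem card_inverters_le (g : L) : (inverters g).card ≤ cC g := by
  classical
  rcases (inverters g).eq_empty_or_nonempty with e | ⟨a, ha⟩
  · simp [e]
  rw [← card_image_of_injective (inverters g) (mul_right_injective a)]
  unfold cC
  rw [Nat.card_eq_fintype_card, ← Fintype.card_coe]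
  refine Fintype.card_le_of_injective (fun x => ⟨x.1, ?_⟩) fun x y h => Subtype.ext (congrArg Subtype.val h :)
  obtain ⟨b, hb, hbx⟩ := mem_image.1 x.2
  exact hbx ▸ mul_mem_centralizer_of_mem_inverters ha hb

/-- If the whole coset inverts, the centraliser is abelian. -/
theorem comm_of_card_inverters {g : L} (h : (inverters g).card = cC g) :
    ∀ x ∈ centralizer ({g} : Set L), ∀ y ∈ centralizer ({g} : Set L), x * y = y * x := by
  classical
  obtain ⟨a, ha⟩ : (inverters g).Nonempty := by
    rw [← card_pos, h]; exact Nat.card_pos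
  have hall : ∀ x ∈ centralizer ({g} : Set L), a * x ∈ inverters g := by
    intro x hx
    have he : (inverters g).image (a * ·) =
        univ.filter (fun y => y ∈ centralizer ({g} : Set L)) := by
      refine eq_of_subset_of_card_le (fun y hy => ?_) (le_of_eq ?_)
      · obtain ⟨b, hb, rfl⟩ := mem_image.1 hy
        simpa using mul_mem_centralizer_of_mem_inverters ha hb
      · rw [card_image_of_injective _ (mul_right_injective a), h, ← Fintype.card_subtype]
        unfold cC
        rw [Nat.card_eq_fintype_card]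
    have hx' : x ∈ (inverters g).image (a * ·) := by rw [he]; simpa using hx
    obtain ⟨b, hb, hbx⟩ := mem_image.1 hx'
    have e : a * x = b := by
      rw [← hbx, ← mul_assoc, involution_sq (mem_inverters.1 ha).1, one_mul]
    rw [e]; exact hb
  have hinv : ∀ x ∈ centralizer ({g} : Set L), a * x * a⁻¹ = x⁻¹ := fun x hx => by
    rw [eq_inv_iff_mul_eq_one, involution_inv (mem_inverters.1 ha).1, mul_assoc (a * x) a x]
    exact involution_sq (mem_inverters.1 (hall x hx)).1
  intro x hx y hy
  have := hinv (x * y) (mul_mem hx hy)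
  rw [show a * (x * y) * a⁻¹ = a * x * a⁻¹ * (a * y * a⁻¹) by group, hinv x hx, hinv y hy] at this
  simpa using congrArg (·⁻¹) this.symm

/-- An element of a class of even real elements: its extended centraliser. -/
theorem two_mul_cC_dvd {g a : L} (ha : a ∈ inverters g) (hg : g * g ≠ 1) :
    2 * cC g ∣ Nat.card L := by
  classical
  have hinv := conj_eq_inv_of_mem_inverters ha
  let E : Subgroup L :=
    { carrier := {x | x * g * x⁻¹ = g ∨ x * g * x⁻¹ = g⁻¹}
      one_mem' := by left; group
      mul_mem' := by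
        intro x y hx hy
        simp only [Set.mem_ofPred_eq] at hx hy ⊢
        rw [show x * y * g * (x * y)⁻¹ = x * (y * g * y⁻¹) * x⁻¹ by group]
        rcases hy with e | e <;> rw [e] <;> rcases hx with e' | e'
        · exact Or.inl e'
        · exact Or.inr e'
        · right; rw [show x * g⁻¹ * x⁻¹ = (x * g * x⁻¹)⁻¹ by group, e']
        · left; rw [show x * g⁻¹ * x⁻¹ = (x * g * x⁻¹)⁻¹ by group, e', inv_inv]
      inv_mem' := by
        intro x hx
        simp only [Set.mem_ofPred_eq] at hx ⊢
        rcases hx with e | e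
        · left
          calc x⁻¹ * g * x⁻¹⁻¹ = x⁻¹ * (x * g * x⁻¹) * x⁻¹⁻¹ := by rw [e]
            _ = g := by group
        · right
          calc x⁻¹ * g * x⁻¹⁻¹ = (x⁻¹ * g⁻¹ * x⁻¹⁻¹)⁻¹ := by group
            _ = (x⁻¹ * (x * g * x⁻¹) * x⁻¹⁻¹)⁻¹ := by rw [e]
            _ = g⁻¹ := by group }
  have hle : centralizer ({g} : Set L) ≤ E := fun x hx =>
    Or.inl (by rw [mem_centralizer_singleton_iff.1 hx, mul_inv_cancel_right])
  have hidx : (centralizer ({g} : Set L)).relIndex E = 2 := by
    rw [relIndex, index_eq_two_iff]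
    refine ⟨⟨a, Or.inr hinv⟩, fun x => ?_⟩
    simp only [mem_subgroupOf, Subgroup.coe_mul, mem_centralizer_singleton_iff]
    rcases x.2 with e | e
    · refine Or.inr ⟨by rwa [mul_inv_eq_iff_eq_mul] at e, fun h => hg ?_⟩
      have h1 : (x : L) * a * g * ((x : L) * a)⁻¹ = g := by rw [h, mul_inv_cancel_right]
      rw [show (x : L) * a * g * ((x : L) * a)⁻¹ = (x : L) * (a * g * a⁻¹) * (x : L)⁻¹ by group,
        hinv, show (x : L) * g⁻¹ * (x : L)⁻¹ = ((x : L) * g * (x : L)⁻¹)⁻¹ by group, e] at h1
      calc g * g = g⁻¹ * g := by rw [h1]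
        _ = 1 := inv_mul_cancel g
    · refine Or.inl ⟨?_, fun h => hg ?_⟩
      · rw [← mul_inv_eq_iff_eq_mul,
          show (x : L) * a * g * ((x : L) * a)⁻¹ = (x : L) * (a * g * a⁻¹) * (x : L)⁻¹ by group,
          hinv, show (x : L) * g⁻¹ * (x : L)⁻¹ = ((x : L) * g * (x : L)⁻¹)⁻¹ by group, e, inv_inv]
      · rw [h, mul_inv_cancel_right] at e
        calc g * g = g⁻¹ * g := by rw [← e]
          _ = 1 := inv_mul_cancel g
  have h1 := card_mul_index ((centralizer ({g} : Set L)).subgroupOf E)
  rw [Nat.card_congr (subgroupOfEquivOfLe hle).toEquiv,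
    show ((centralizer ({g} : Set L)).subgroupOf E).index = 2 from hidx] at h1
  have h2 := card_subgroup_dvd_card E
  rw [← h1, mul_comm] at h2
  exact h2

/-- Involutions `a` and `b` correspond to `g = a * b` and an inverting involution. -/
theorem sum_inverters : ∑ g : L, (inverters g).card = (invol L).card * (invol L).card := by
  classical
  rw [← card_product, ← card_sigma]
  refine card_bij' (fun x _ => (x.2, x.2 * x.1)) (fun y _ => ⟨y.1 * y.2, y.1⟩) ?_ ?_ ?_ ?_
  · rintro ⟨g, a⟩ h
    simp only [mem_sigma, mem_univ, true_and] at h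
    simp only [mem_product, mem_invol]
    exact mem_inverters.1 h
  · rintro ⟨a, b⟩ h
    simp only [mem_product, mem_invol] at h
    simp only [mem_sigma, mem_univ, true_and, mem_inverters]
    refine ⟨h.1, ?_⟩
    rw [← mul_assoc, involution_sq h.1, one_mul]
    exact h.2
  · rintro ⟨g, a⟩ h
    simp only [mem_sigma, mem_univ, true_and] at h
    simp [← mul_assoc, involution_sq (mem_inverters.1 h).1]
  · rintro ⟨a, b⟩ h
    simp only [mem_product, mem_invol] at h
    simp [← mul_assoc, involution_sq h.1]

/-- The number of involutions centralising `g`. -/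
noncomputable def centInvol (g : L) : Finset L := (invol L).filter fun a => a * g = g * a

theorem mem_centInvol {g a : L} : a ∈ centInvol g ↔ orderOf a = 2 ∧ a * g = g * a := by
  simp [centInvol, mem_invol]

theorem card_centInvol_conj (g x : L) :
    (centInvol (g * x * g⁻¹)).card = (centInvol x).card := by
  refine card_bij' (fun a _ => g⁻¹ * a * g) (fun a _ => g * a * g⁻¹) ?_ ?_ ?_ ?_
  · intro a ha
    obtain ⟨h1, h2⟩ := mem_centInvol.1 ha
    refine mem_centInvol.2 ⟨?_, ?_⟩
    · have := CfsgLib.Signalizer.orderOf_conj g⁻¹ a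
      rw [inv_inv] at this
      rw [this, h1]
    · calc g⁻¹ * a * g * x = g⁻¹ * (a * (g * x * g⁻¹)) * g := by group
        _ = g⁻¹ * (g * x * g⁻¹ * a) * g := by rw [h2]
        _ = x * (g⁻¹ * a * g) := by group
  · intro a ha
    obtain ⟨h1, h2⟩ := mem_centInvol.1 ha
    refine mem_centInvol.2 ⟨by rw [CfsgLib.Signalizer.orderOf_conj, h1], ?_⟩
    calc g * a * g⁻¹ * (g * x * g⁻¹) = g * (a * x) * g⁻¹ := by group
      _ = g * x * g⁻¹ * (g * a * g⁻¹) := by rw [h2]; group
  · intro a _; group
  · intro a _; group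

theorem inverters_one : inverters (1 : L) = invol L := by
  ext a; simp [mem_inverters, mem_invol]

theorem card_inverters_invol_lt {t : L} (ht : orderOf t = 2) :
    (inverters t).card < (centInvol t).card := by
  refine card_lt_card (ssubset_iff_of_subset (fun a ha => ?_) |>.2 ⟨t, ?_, ?_⟩)
  · refine mem_centInvol.2 ⟨(mem_inverters.1 ha).1, ?_⟩
    have := conj_eq_inv_of_mem_inverters ha
    rwa [involution_inv ht, mul_inv_eq_iff_eq_mul] at this
  · exact mem_centInvol.2 ⟨ht, rfl⟩
  · intro h
    have := (mem_inverters.1 h).2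
    rw [involution_sq ht, orderOf_one] at this
    exact absurd this (by norm_num)

theorem sum_centInvol (S : Finset L) :
    ∑ g ∈ S, (centInvol g).card = ∑ a ∈ invol L, (S.filter fun g => a * g = g * a).card := by
  simp only [centInvol, card_filter]
  exact sum_comm

/-- Every centraliser order is attached to an element order. -/
theorem even_cC_of_comm {g a : L} (ha : orderOf a = 2) (h : a * g = g * a) : 2 ∣ cC g := by
  have := Subgroup.orderOf_dvd_natCard (centralizer ({g} : Set L))
    (mem_centralizer_singleton_iff.2 h)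
  rwa [ha] at this

theorem exists_invol_of_even {g : L} (h : 2 ∣ cC g) : (centInvol g).Nonempty := by
  haveI := Fact.mk Nat.prime_two
  obtain ⟨⟨a, ha⟩, hao⟩ := exists_prime_orderOf_dvd_card' 2 h
  refine ⟨a, mem_centInvol.2 ⟨by rwa [← Subgroup.orderOf_coe] at hao, mem_centralizer_singleton_iff.1 ha⟩⟩

theorem orderOf_dvd_cC (g : L) : orderOf g ∣ cC g :=
  Subgroup.orderOf_dvd_natCard _ (mem_centralizer_singleton_iff.2 rfl)

end CfsgLib.Recog.ClassSizesPSL
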