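import Cfsg.Agent.Lib.Recog.ClassSizesPSL.Count
import Cfsg.Agent.Lib.TwoGroups.ElemCentMoebius

/-!
# Groups with the centraliser orders of `PSL(2, q)`, `q` even, are `PSL(2, q)`

`v = q - 1` and `w = q + 1`; the centralisers of the nontrivial elements have order `q`, `v` or
`w`.
-/

set_option autoImplicit false
set_option linter.all false

namespace CfsgLib.Recog.ClassSizesPSL

open Subgroup Finset
open CfsgLib.Signalizer (involution_sq involution_inv involution_ne_one orderOf_eq_two_of)

/-- The centraliser orders of `PSL(2, 2 ^ f)`. -/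
structure EvenData (L : Type*) [Group L] (f q v w : ℕ) : Prop where
  hf : 2 ≤ f
  hq : q = 2 ^ f
  hv : v + 1 = q
  hw : w = q + 1
  card : Nat.card L = q * v * w
  cls : ∀ x : L, x ≠ 1 → cC x = q ∨ cC x = v ∨ cC x = w

namespace EvenData

variable {L : Type*} [Group L] [Fintype L] [DecidableEq L] {f q v w : ℕ} (O : EvenData L f q v w)

include O

omit [Fintype L] [DecidableEq L] in
theorem facts : 4 ≤ q ∧ q % 2 = 0 ∧ v % 2 = 1 ∧ w % 2 = 1 := by
  obtain ⟨k, hk⟩ := Nat.exists_eq_add_of_le O.hf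
  have hq : q = 4 * 2 ^ k := by rw [O.hq, hk, pow_add]; norm_num
  have := Nat.one_le_two_pow (n := k)
  have := O.hv
  have := O.hw
  omega

theorem sum_eq (F : L → ℕ) : ∑ g, F g = F 1 + ∑ g ∈ cSet L q, F g + ∑ g ∈ cSet L v, F g +
    ∑ g ∈ cSet L w, F g := by
  obtain ⟨h4, -, -, -⟩ := O.facts
  have := O.hv
  have := O.hw
  have n1 : q ≠ v := by omega
  have n2 : q ≠ w := by omega
  have n3 : v ≠ w := by omega
  have h1 : F 1 = ∑ g, if g = 1 then F g else 0 := by simp
  simp only [cSet, sum_filter]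
  rw [h1, ← sum_add_distrib, ← sum_add_distrib, ← sum_add_distrib]
  refine sum_congr rfl fun g _ => ?_
  by_cases hg : g = 1
  · simp [hg]
  rcases O.cls g hg with e | e | e <;>
    simp [hg, e, n1, n1.symm, n2, n2.symm, n3, n3.symm]

theorem even_iff {g : L} (hg : g ≠ 1) (h : 2 ∣ cC g) : cC g = q := by
  obtain ⟨-, -, hv, hw⟩ := O.facts
  rcases O.cls g hg with e | e | e
  · exact e
  all_goals omega

/-- The class equation. -/
theorem counts : (cSet L q).card = v * w ∧
    2 * ((cSet L v).card * v + (cSet L w).card * w) = (2 * v) * Nat.card L := by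
  obtain ⟨h4, hq2, hv2, hw2⟩ := O.facts
  have hv := O.hv
  have hw := O.hw
  obtain ⟨a, ha⟩ := exists_card_cSet (L := L) q
  obtain ⟨b, hb⟩ := exists_card_cSet (L := L) v
  obtain ⟨c, hc⟩ := exists_card_cSet (L := L) w
  rw [O.card] at ha hb hc
  have A : (cSet L q).card = a * (v * w) :=
    Nat.eq_of_mul_eq_mul_left (by omega : 0 < q) (by rw [ha]; ring)
  have B : (cSet L v).card = b * (q * w) :=
    Nat.eq_of_mul_eq_mul_left (by omega : 0 < v) (by rw [hb]; ring)
  have C : (cSet L w).card = c * (q * v) :=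
    Nat.eq_of_mul_eq_mul_left (by omega : 0 < w) (by rw [hc]; ring)
  have hn : Nat.card L = 1 + (cSet L q).card + (cSet L v).card + (cSet L w).card := by
    have := O.sum_eq fun _ => 1
    simpa [Nat.card_eq_fintype_card] using this
  rw [O.card, A, B, C] at hn
  have hn' : (q : ℤ) * v * w = 1 + a * (v * w) + b * (q * w) + c * (q * v) := by exact_mod_cast hn
  have H1 : (v : ℤ) = q - 1 := by omega
  have H2 : (w : ℤ) = q + 1 := by omega
  have b1 : 1 ≤ a := by
    rcases Nat.eq_zero_or_pos a with rfl | h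
    · exfalso
      have hd : (q : ℤ) ∣ 1 := ⟨v * w - b * w - c * v, by push_cast at hn'; linear_combination -hn'⟩
      have := Int.le_of_dvd one_pos hd
      omega
    · exact h
  have b2 : (v : ℤ) ≤ 2 * b + 1 := Int.le_of_dvd (by omega)
    ⟨q * w - a * w - c * q - b * (v + 3), by
      rw [H1, H2] at hn' ⊢; linear_combination -hn'⟩
  have b3 : (w : ℤ) ≤ 2 * c + 1 := Int.le_of_dvd (by omega)
    ⟨q * v - a * v - b * q - c * (w - 3), by
      rw [H1, H2] at hn' ⊢; linear_combination -hn'⟩
  have hsum : 2 * ((a : ℤ) - 1) * (v * w) + (2 * b + 1 - v) * (q * w) +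
      (2 * c + 1 - w) * (q * v) = 0 := by
    rw [H1, H2] at hn' ⊢; linear_combination -2 * hn'
  have p1 : 0 < (v * w : ℤ) := mul_pos (by omega) (by omega)
  have p2 : 0 < (q * w : ℤ) := mul_pos (by omega) (by omega)
  have p3 : 0 < (q * v : ℤ) := mul_pos (by omega) (by omega)
  have m1 : 0 ≤ 2 * ((a : ℤ) - 1) * (v * w) := mul_nonneg (by omega) p1.le
  have m2 : 0 ≤ (2 * (b : ℤ) + 1 - v) * (q * w) := mul_nonneg (by omega) p2.le
  have m3 : 0 ≤ (2 * (c : ℤ) + 1 - w) * (q * v) := mul_nonneg (by omega) p3.le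
  have n1 : 2 * ((a : ℤ) - 1) * (v * w) = 0 := by linarith
  have n2 : (2 * (b : ℤ) + 1 - v) * (q * w) = 0 := by linarith
  have n3 : (2 * (c : ℤ) + 1 - w) * (q * v) = 0 := by linarith
  rw [mul_eq_zero, or_iff_left (by omega)] at n1 n2 n3
  have za : a = 1 := by omega
  refine ⟨by rw [A, za, one_mul], ?_⟩
  rw [B, C, O.card]
  have zb : 2 * b + 1 = v := by omega
  have zc : 2 * c + 1 = w := by omega
  calc 2 * (b * (q * w) * v + c * (q * v) * w) = (2 * b + 2 * c) * (q * v * w) := by ring
    _ = 2 * v * (q * v * w) := by rw [show 2 * b + 2 * c = 2 * v by omega]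

/-- Every element of even centraliser order is an involution, and they are all conjugate. -/
theorem cSet_eq_invol : cSet L q = invol L := by
  classical
  haveI := Fact.mk Nat.prime_two
  obtain ⟨h4, hq2, hv2, hw2⟩ := O.facts
  have hsub : invol L ⊆ cSet L q := fun x hx =>
    mem_cSet.2 ⟨involution_ne_one (mem_invol.1 hx),
      O.even_iff (involution_ne_one (mem_invol.1 hx)) (even_cC_of_comm (mem_invol.1 hx) rfl)⟩
  refine (Finset.eq_of_subset_of_card_le hsub ?_).symm
  obtain ⟨m, hm⟩ := exists_card_mul_eq (c := q) (invol L) (fun g x h => conj_mem_invol g h)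
    fun x hx => (mem_cSet.1 (hsub hx)).2
  rw [O.card] at hm
  have hm' : (invol L).card = m * (v * w) :=
    Nat.eq_of_mul_eq_mul_left (by omega : 0 < q) (by rw [hm]; ring)
  obtain ⟨t, ht⟩ := exists_prime_orderOf_dvd_card' (G := L) 2 (by
    rw [O.card]; exact Dvd.dvd.mul_right (Dvd.dvd.mul_right (Nat.dvd_of_mod_eq_zero hq2) _) _)
  rcases Nat.eq_zero_or_pos m with rfl | h
  · rw [zero_mul, Finset.card_eq_zero] at hm'
    have := mem_invol.2 ht
    rw [hm'] at this
    exact absurd this (Finset.notMem_empty t)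
  · rw [O.counts.1, hm']
    exact Nat.le_mul_of_pos_left _ h

theorem sq_eq_one_of_comm {t x : L} (ht : orderOf t = 2)
    (hx : x ∈ centralizer ({t} : Set L)) : x * x = 1 := by
  by_cases h1 : x = 1
  · rw [h1, one_mul]
  have h2 : x ∈ cSet L q := mem_cSet.2 ⟨h1,
    O.even_iff h1 (even_cC_of_comm ht (mem_centralizer_singleton_iff.1 hx).symm)⟩
  rw [O.cSet_eq_invol, mem_invol] at h2
  exact involution_sq h2

theorem comm_invol {t : L} (ht : orderOf t = 2) :
    ∀ x ∈ centralizer ({t} : Set L), ∀ y ∈ centralizer ({t} : Set L), x * y = y * x := by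
  intro x hx y hy
  have ex : x⁻¹ = x := inv_eq_of_mul_eq_one_right (O.sq_eq_one_of_comm ht hx)
  have ey : y⁻¹ = y := inv_eq_of_mul_eq_one_right (O.sq_eq_one_of_comm ht hy)
  have exy : (x * y)⁻¹ = x * y :=
    inv_eq_of_mul_eq_one_right (O.sq_eq_one_of_comm ht (mul_mem hx hy))
  rw [mul_inv_rev, ex, ey] at exy
  exact exy.symm

/-- All centralisers of nontrivial elements are abelian. -/
theorem comm_cent {g : L} (hg : g ≠ 1) :
    ∀ x ∈ centralizer ({g} : Set L), ∀ y ∈ centralizer ({g} : Set L), x * y = y * x := by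
  classical
  obtain ⟨h4, hq2, hv2, hw2⟩ := O.facts
  have hv := O.hv
  have hw := O.hw
  obtain ⟨cq, csum⟩ := O.counts
  by_cases hgq : g ∈ cSet L q
  · rw [O.cSet_eq_invol, mem_invol] at hgq
    exact O.comm_invol hgq
  -- count the pairs of involutions
  have hle : ∀ c, ∀ x ∈ cSet L c, (inverters x).card ≤ c := fun c x hx =>
    (card_inverters_le x).trans (le_of_eq (mem_cSet.1 hx).2)
  have hV := sum_le_card_nsmul _ _ _ (hle v)
  have hW := sum_le_card_nsmul _ _ _ (hle w)
  rw [smul_eq_mul] at hV hW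
  have hT : ∀ t ∈ invol L, (inverters t).card + 2 ≤ q := by
    intro t ht
    have ht' := mem_invol.1 ht
    have h1 := card_inverters_invol_lt ht'
    have h2 : (centInvol t).card < cC t := by
      unfold cC
      rw [Nat.card_eq_fintype_card, Fintype.card_subtype]
      refine Finset.card_lt_card ((Finset.ssubset_iff_of_subset (fun a ha => ?_)).2 ⟨1, ?_, ?_⟩)
      · simpa [mem_centralizer_singleton_iff] using (mem_centInvol.1 ha).2
      · simp
      · exact fun h => involution_ne_one (mem_centInvol.1 h).1 rfl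
    have h3 : cC t = q := by
      rw [← O.cSet_eq_invol] at ht
      exact (mem_cSet.1 ht).2
    omega
  have hTb : ∑ t ∈ invol L, (inverters t).card + 2 * (v * w) ≤ v * w * q := by
    have : ∑ t ∈ invol L, ((inverters t).card + 2) ≤ ∑ t ∈ invol L, q := sum_le_sum hT
    rw [sum_add_distrib, sum_const, sum_const, smul_eq_mul, smul_eq_mul,
      ← O.cSet_eq_invol, cq] at this
    rw [← O.cSet_eq_invol]
    linarith
  have hT2 := sum_inverters (L := L)
  rw [O.sum_eq, inverters_one, O.cSet_eq_invol,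
    show (invol L).card = v * w by rw [← O.cSet_eq_invol, cq]] at hT2
  have e1 : v * w + 1 = q * q := by rw [hw, ← hv]; ring
  have hN : Nat.card L = q * (v * w) := by rw [O.card]; ring
  rw [hN] at csum
  have e2 : v * w * (v * w) + v * w = v * w * q + v * (q * (v * w)) := by
    calc v * w * (v * w) + v * w = v * w * (v * w + 1) := by ring
      _ = v * w * (q * q) := by rw [e1]
      _ = v * w * (q * (v + 1)) := by rw [hv]
      _ = _ := by ring
  have hVe : ∑ x ∈ cSet L v, (inverters x).card = (cSet L v).card * v := by linarith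
  have hWe : ∑ x ∈ cSet L w, (inverters x).card = (cSet L w).card * w := by linarith
  rcases O.cls g hg with e | e | e
  · exact absurd (mem_cSet.2 ⟨hg, e⟩) hgq
  · refine comm_of_card_inverters ?_
    rw [e]
    exact (sum_eq_sum_iff_of_le (hle v)).1 (by rw [sum_const, smul_eq_mul]; exact hVe) g
      (mem_cSet.2 ⟨hg, e⟩)
  · refine comm_of_card_inverters ?_
    rw [e]
    exact (sum_eq_sum_iff_of_le (hle w)).1 (by rw [sum_const, smul_eq_mul]; exact hWe) g
      (mem_cSet.2 ⟨hg, e⟩)

/-- The group is `PSL(2, q)`. -/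
theorem exists_iso : ∃ (F : Type) (_ : Field F) (_ : Fintype F), Fintype.card F = q ∧
    Nonempty (L ≃* Matrix.ProjectiveSpecialLinearGroup (Fin 2) F) := by
  classical
  haveI := Fact.mk Nat.prime_two
  obtain ⟨h4, hq2, hv2, hw2⟩ := O.facts
  obtain ⟨T⟩ := (inferInstance : Nonempty (Sylow 2 L))
  have hTc : Nat.card (T : Subgroup L) = q := by
    have hvw : ¬ 2 ∣ v * w := by rw [Nat.prime_two.dvd_mul]; omega
    have hn : Nat.card L = 2 ^ f * (v * w) := by rw [O.card, O.hq]; ring
    rw [T.card_eq_multiplicity, hn,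
      Nat.factorization_mul (pow_ne_zero _ two_ne_zero) (fun e => hvw (by rw [e]; exact dvd_zero 2)),
      Finsupp.add_apply, Nat.factorization_pow_self Nat.prime_two,
      Nat.factorization_eq_zero_of_not_dvd hvw, add_zero, O.hq]
  have hTne : (T : Subgroup L) ≠ ⊥ := fun e => by rw [e, card_bot] at hTc; omega
  haveI : Nontrivial (T : Subgroup L) := (T : Subgroup L).nontrivial_iff_ne_bot.2 hTne
  haveI : Nontrivial (center (T : Subgroup L)) := T.2.center_nontrivial
  obtain ⟨z, hz1⟩ := exists_ne (1 : center (T : Subgroup L))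
  have hzL : ((z : (T : Subgroup L)) : L) ∈ cSet L q := by
    have hne : ((z : (T : Subgroup L)) : L) ≠ 1 := fun e => hz1 (Subtype.ext (Subtype.ext e))
    refine mem_cSet.2 ⟨hne, O.even_iff hne ((Nat.dvd_of_mod_eq_zero hq2).trans ?_)⟩
    rw [← hTc]
    exact card_dvd_of_le fun s hs => mem_centralizer_singleton_iff.2
      (congrArg Subtype.val (mem_center_iff.1 z.2 ⟨s, hs⟩))
  rw [O.cSet_eq_invol, mem_invol] at hzL
  have hTsq : ∀ x ∈ (T : Subgroup L), x * x = 1 := fun x hx =>
    O.sq_eq_one_of_comm hzL (mem_centralizer_singleton_iff.2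
      (congrArg Subtype.val (mem_center_iff.1 z.2 ⟨x, hx⟩)))
  suffices hE : CfsgLib.TwoGroups.ElemCent T by
    obtain ⟨F, iF, iF2, hF, e⟩ := CfsgLib.TwoGroups.ElemCent.exists_mulEquiv_psl hE
    exact ⟨F, iF, iF2, hF.trans hTc, e⟩
  refine ⟨?_, ?_, ?_⟩
  · intro hc
    haveI := hc
    obtain ⟨g, hg⟩ := IsCyclic.exists_generator (α := (T : Subgroup L))
    have h1 : orderOf g = q := by
      rw [← hTc, ← Nat.card_zpowers, show zpowers g = ⊤ from eq_top_iff.2 fun x _ => hg x, card_top]
    have h2 : orderOf g ∣ 2 := orderOf_dvd_of_pow_eq_one (by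
      rw [pow_two]; exact Subtype.ext (hTsq g g.2))
    have := Nat.le_of_dvd two_pos h2
    omega
  · intro hn
    have h1 : invol L ⊆ ((univ : Finset L).filter fun x => x ∈ (T : Subgroup L)) := by
      intro x hx
      simp only [mem_filter, mem_univ, true_and]
      obtain ⟨g, hg⟩ := (IsPGroup.of_card (n := 1) (by
        rw [Nat.card_zpowers, mem_invol.1 hx, pow_one]) : IsPGroup 2 (zpowers x)).exists_le_sylow
      haveI := hn
      haveI := T.unique_of_normal hn
      rw [Subsingleton.elim T g]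
      exact hg (mem_zpowers x)
    have h2 := Finset.card_le_card h1
    rw [← O.cSet_eq_invol, O.counts.1, ← Fintype.card_subtype, ← Nat.card_eq_fintype_card, hTc] at h2
    have := O.hv
    have := O.hw
    nlinarith
  · intro t ht
    refine ⟨⟨⟨fun a b => Subtype.ext (O.comm_invol ht a a.2 b b.2)⟩⟩, fun c hc => ?_⟩
    rw [pow_two]; exact O.sq_eq_one_of_comm ht hc

end EvenData

end CfsgLib.Recog.ClassSizesPSL
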