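import Cfsg.Agent.Lib.Recog.ClassSizesPSL.OddTight
import Cfsg.Agent.Lib.PGroups.BSW.Zassenhaus
import Cfsg.Agent.Lib.Geo.PGLTwoBasic

/-!
# Groups with the centraliser orders of `PSL(2, q)`, `q` odd, are `PSL(2, q)`
-/

set_option autoImplicit false
set_option linter.all false

namespace CfsgLib.Recog.ClassSizesPSL

open Subgroup Finset
open scoped commutatorElement
open CfsgLib.Signalizer (involution_sq involution_inv involution_ne_one orderOf_eq_two_of)

namespace OddData

variable {L : Type*} [Group L] [Fintype L] [DecidableEq L] {p f q w u : ℕ} (O : OddData L p f q w u)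

include O

/-- The centraliser of an involution `t` is generalised dihedral. -/
theorem exists_dihedral {t : L} (ht : orderOf t = 2) : ∃ K : Subgroup L,
    K ≤ centralizer ({t} : Set L) ∧ t ∈ K ∧ Nat.card K = u ∧
    (∀ x ∈ K, ∀ y ∈ K, x * y = y * x) ∧ (∀ x ∈ K, orderOf x = 2 → x = t) ∧
    (∀ x ∈ K, x ≠ 1 → x ≠ t → centralizer ({x} : Set L) = K) ∧
    ∀ s ∈ centralizer ({t} : Set L), s ∉ K → orderOf s = 2 ∧ ∀ x ∈ K, s * x * s⁻¹ = x⁻¹ := by
  classical
  obtain ⟨hti, h2u, hone, -, -⟩ := O.tight
  have hu := O.hu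
  set H := centralizer ({t} : Set L) with hH
  set Hf := (univ : Finset L).filter fun x => x ∈ H with hHf
  have hHc : Hf.card = 2 * u := by
    rw [hHf, ← Fintype.card_subtype, ← Nat.card_eq_fintype_card]
    exact O.cC_invol ht
  set NS := Hf \ insert 1 (centInvol t) with hNS
  have hsub : insert 1 (centInvol t) ⊆ Hf := by
    intro x hx
    simp only [hHf, mem_filter, mem_univ, true_and]
    rcases mem_insert.1 hx with rfl | hx
    · exact one_mem H
    · exact mem_centralizer_singleton_iff.2 (mem_centInvol.1 hx).2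
  have h1n : (1 : L) ∉ centInvol t := fun h =>
    involution_ne_one (mem_centInvol.1 h).1 rfl
  have hNSc : NS.card + (u + 2) = 2 * u := by
    rw [← hHc, hNS, ← card_sdiff_add_card_eq_card hsub, card_insert_of_notMem h1n, hti t ht]
  have memNS : ∀ x, x ∈ NS ↔ x ∈ H ∧ x ≠ 1 ∧ orderOf x ≠ 2 := by
    intro x
    simp only [hNS, hHf, mem_sdiff, mem_filter, mem_univ, true_and, mem_insert, mem_centInvol]
    refine ⟨fun ⟨h1, h2⟩ => ⟨h1, fun e => h2 (Or.inl e), fun e => h2 (Or.inr ⟨e, mem_centralizer_singleton_iff.1 h1⟩)⟩,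
      fun ⟨h1, h2, h3⟩ => ⟨h1, ?_⟩⟩
    rintro (e | ⟨e, -⟩)
    · exact h2 e
    · exact h3 e
  -- centralisers of the non-involutions
  have hdata : ∀ g ∈ NS, g ∈ cSet L u ∧ centralizer ({g} : Set L) ≤ H ∧
      t ∈ centralizer ({g} : Set L) ∧
      (∀ x, x ∈ centralizer ({g} : Set L) ↔ x = 1 ∨ x = t ∨ x ∈ NS) := by
    intro g hg
    obtain ⟨hgH, hg1, hg2⟩ := (memNS g).1 hg
    have hgt : t * g = g * t := (mem_centralizer_singleton_iff.1 hgH).symm
    have hgu : g ∈ cSet L u := by
      rcases O.two_u_of_even hg1 (even_cC_of_comm ht hgt) with e | e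
      · have : g ∈ cSet L (2 * u) := mem_cSet.2 ⟨hg1, e⟩
        rw [h2u, mem_invol] at this
        exact absurd this hg2
      · exact mem_cSet.2 ⟨hg1, e⟩
    obtain ⟨a, ha⟩ := Finset.card_eq_one.1 (hone g hgu)
    have hta : t = a := by
      have : t ∈ centInvol g := mem_centInvol.2 ⟨ht, hgt⟩
      rwa [ha, mem_singleton] at this
    subst hta
    have huniq : ∀ x ∈ centralizer ({g} : Set L), orderOf x = 2 → x = t := by
      intro x hx hxo
      have : x ∈ centInvol g := mem_centInvol.2 ⟨hxo, mem_centralizer_singleton_iff.1 hx⟩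
      rwa [ha, mem_singleton] at this
    have htg : t ∈ centralizer ({g} : Set L) := mem_centralizer_singleton_iff.2 hgt
    have hle : centralizer ({g} : Set L) ≤ H := fun x hx => by
      have := huniq (x * t * x⁻¹) (mul_mem (mul_mem hx htg) (inv_mem hx))
        (by rw [CfsgLib.Signalizer.orderOf_conj, ht])
      exact mem_centralizer_singleton_iff.2 (mul_inv_eq_iff_eq_mul.1 this)
    refine ⟨hgu, hle, htg, ?_⟩
    set Cf := (univ : Finset L).filter fun x => x ∈ centralizer ({g} : Set L) with hCf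
    have hCc : Cf.card = u := by
      rw [hCf, ← Fintype.card_subtype, ← Nat.card_eq_fintype_card]
      exact (mem_cSet.1 hgu).2
    have hC2 : Cf ⊆ insert 1 (insert t NS) := by
      intro x hx
      simp only [hCf, mem_filter, mem_univ, true_and] at hx
      simp only [mem_insert, memNS]
      by_cases h1 : x = 1
      · exact Or.inl h1
      by_cases h2 : orderOf x = 2
      · exact Or.inr (Or.inl (huniq x hx h2))
      · exact Or.inr (Or.inr ⟨hle hx, h1, h2⟩)
    have hC3 : Cf = insert 1 (insert t NS) := by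
      refine Finset.eq_of_subset_of_card_le hC2 ?_
      have := card_insert_le (1 : L) (insert t NS)
      have := card_insert_le t NS
      omega
    intro x
    have hx : x ∈ Cf ↔ x ∈ centralizer ({g} : Set L) := by simp [hCf]
    rw [← hx, hC3]
    simp
  obtain ⟨g0, hg0⟩ : NS.Nonempty := Finset.card_pos.1 (by omega)
  obtain ⟨hg0u, hle, htK, hmem⟩ := hdata g0 hg0
  have hKeq : ∀ g ∈ NS, centralizer ({g} : Set L) = centralizer ({g0} : Set L) := by
    intro g hg
    ext x
    rw [(hdata g hg).2.2.2 x, hmem x]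
  refine ⟨centralizer ({g0} : Set L), hle, htK, (mem_cSet.1 hg0u).2, ?_, ?_, ?_, ?_⟩
  · intro x hx y hy
    rcases (hmem x).1 hx with rfl | rfl | hxN
    · simp
    · exact (mem_centralizer_singleton_iff.1 (hle hy)).symm
    · rw [← hKeq x hxN] at hy
      exact (mem_centralizer_singleton_iff.1 hy).symm
  · intro x hx hxo
    rcases (hmem x).1 hx with rfl | rfl | hxN
    · exact absurd hxo (by rw [orderOf_one]; norm_num)
    · rfl
    · exact absurd hxo ((memNS x).1 hxN).2.2
  · intro x hx h1 h2
    rcases (hmem x).1 hx with rfl | rfl | hxN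
    · exact absurd rfl h1
    · exact absurd rfl h2
    · exact hKeq x hxN
  · intro s hs hsK
    have key : ∀ r ∈ H, r ∉ centralizer ({g0} : Set L) → orderOf r = 2 := by
      intro r hr hrK
      by_contra h2
      refine hrK ((hmem r).2 (Or.inr (Or.inr ((memNS r).2 ⟨hr, ?_, h2⟩))))
      rintro rfl
      exact hrK (one_mem _)
    refine ⟨key s hs hsK, fun x hx => ?_⟩
    have hsx : s * x ∉ centralizer ({g0} : Set L) := fun h =>
      hsK (by simpa using mul_mem h (inv_mem hx))
    have h2 := involution_sq (key _ (mul_mem hs (hle hx)) hsx)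
    rw [eq_inv_iff_mul_eq_one, involution_inv (key s hs hsK), mul_assoc (s * x) s x]
    exact h2

/-- The elements of type `u` have abelian centralisers. -/
theorem comm_cent_u {g : L} (hg : g ∈ cSet L u) :
    ∀ x ∈ centralizer ({g} : Set L), ∀ y ∈ centralizer ({g} : Set L), x * y = y * x :=
  comm_of_card_inverters ((O.tight.2.2.2.2 g hg).trans (mem_cSet.1 hg).2.symm)

/-- The elements of type `w` have abelian centralisers. -/
theorem comm_cent_w {g : L} (hg : g ∈ cSet L w) :
    ∀ x ∈ centralizer ({g} : Set L), ∀ y ∈ centralizer ({g} : Set L), x * y = y * x :=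
  comm_of_card_inverters ((O.tight.2.2.2.1 g hg).trans (mem_cSet.1 hg).2.symm)

/-- The configuration of the theorem of Brauer, Suzuki and Wall. -/
theorem exists_conclusion : ∃ Q D : Subgroup L, CfsgLib.PGroups.BSW.Conclusion Q D ∧ Nat.card Q = q := by
  obtain ⟨t, ht, hc⟩ := O.exists_central_invol
  obtain ⟨K, hKH, htK, hKc, hab, huniq, hcent, hout⟩ := O.exists_dihedral ht
  obtain ⟨s, hsH, hsK⟩ : ∃ s ∈ centralizer ({t} : Set L), s ∉ K := by
    by_contra hcon
    push Not at hcon
    have h1 := card_le_of_le (show centralizer ({t} : Set L) ≤ K from hcon)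
    unfold cC at hc
    rw [hc, hKc] at h1
    have := O.hu
    omega
  obtain ⟨hso, hinv⟩ := hout s hsH hsK
  have htop : K ⊔ zpowers s = centralizer ({t} : Set L) := by
    refine le_antisymm (sup_le hKH (zpowers_le.2 hsH)) fun x hx => ?_
    by_cases hxK : x ∈ K
    · exact mem_sup_left hxK
    · -- `s * x` lies in `K`
      by_cases hsx : s * x ∈ K
      · have := mul_mem (mem_sup_right (mem_zpowers s) : s ∈ K ⊔ zpowers s) (mem_sup_left hsx)
        rwa [← mul_assoc, involution_sq hso, one_mul] at this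
      · exfalso
        -- both `x` and `s * x` invert `K`
        obtain ⟨-, h1⟩ := hout x hx hxK
        obtain ⟨-, h2⟩ := hout _ (mul_mem hsH hx) hsx
        obtain ⟨g, hgK, hg2⟩ : ∃ g ∈ K, g⁻¹ ≠ g := by
          by_contra hcon
          push Not at hcon
          have h4 : ∀ y ∈ K, y = 1 ∨ y = t := fun y hy => by
            by_cases h1 : y = 1
            · exact Or.inl h1
            · refine Or.inr (huniq y hy (orderOf_eq_two_of h1 ?_))
              conv_lhs => arg 1; rw [← hcon y hy]
              exact inv_mul_cancel y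
          have h5 : Nat.card K ≤ 2 := by
            classical
            rw [Nat.card_eq_fintype_card, Fintype.card_subtype]
            refine (Finset.card_le_card (fun y hy => ?_)).trans (Finset.card_le_two (a := (1 : L)) (b := t))
            simpa using h4 y (by simpa using hy)
          have := O.hu
          omega
        have e := h2 g hgK
        rw [show s * x * g * (s * x)⁻¹ = s * (x * g * x⁻¹) * s⁻¹ by group, h1 g hgK,
          hinv _ (inv_mem hgK), inv_inv] at e
        exact hg2 e.symm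
  have hCK : K ⊓ centralizer ({s} : Set L) = zpowers t := by
    refine le_antisymm ?_ (zpowers_le.2 ⟨htK, mem_centralizer_singleton_iff.2
      (mem_centralizer_singleton_iff.1 hsH).symm⟩)
    rintro x ⟨hx, hxs⟩
    have h1 := hinv x hx
    rw [show s * x * s⁻¹ = x from by
      rw [← mem_centralizer_singleton_iff.1 hxs, mul_inv_cancel_right]] at h1
    by_cases h : x = 1
    · rw [h]; exact one_mem _
    · rw [huniq x hx (orderOf_eq_two_of h (by
        calc x * x = x⁻¹ * x := congrArg (· * x) h1
          _ = 1 := inv_mul_cancel x))]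
      exact mem_zpowers t
  have hTI : ∀ g : L, g ∉ centralizer ({t} : Set L) → K ⊓ K.map (MulAut.conj g).toMonoidHom = ⊥ := by
    intro g hg
    rw [eq_bot_iff]
    rintro x ⟨hxK, y, hy, rfl⟩
    simp only [MulEquiv.coe_toMonoidHom, MulAut.conj_apply] at hxK
    simp only [MulEquiv.coe_toMonoidHom, MulAut.conj_apply, mem_bot]
    by_contra hx1
    have hy1 : y ≠ 1 := fun e => hx1 (by rw [e]; group)
    by_cases hyt : y = t
    · refine hg (mem_centralizer_singleton_iff.2 (mul_inv_eq_iff_eq_mul.1 ?_))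
      refine huniq (g * t * g⁻¹) ?_ (by rw [CfsgLib.Signalizer.orderOf_conj, ht])
      rwa [← hyt]
    · have hxt : g * y * g⁻¹ ≠ t := fun e => hyt (huniq y hy (by
        rw [← CfsgLib.Signalizer.orderOf_conj g y, e, ht]))
      have h1 := hcent _ hxK hx1 hxt
      rw [centralizer_conj, hcent y hy hy1 hyt] at h1
      refine hg (mem_centralizer_singleton_iff.2 (mul_inv_eq_iff_eq_mul.1 ?_))
      refine huniq (g * t * g⁻¹) ?_ (by rw [CfsgLib.Signalizer.orderOf_conj, ht])
      rw [← h1]
      exact ⟨t, htK, by simp⟩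
  have C : CfsgLib.PGroups.BSW.Config t s K :=
    ⟨ht, ⟨⟨fun a b => Subtype.ext (hab a a.2 b b.2)⟩⟩, hKH, htK, hso, hsH, hsK, htop, hCK, hinv,
      hTI, fun a b ha hb => O.isConj_invol ha hb⟩
  obtain ⟨Q, D, h⟩ := CfsgLib.PGroups.BSW.Config.main C
  refine ⟨Q, D, h, ?_⟩
  set c := Nat.card Q with hcQ
  have h1 := h.card_eq
  rw [← hcQ, O.card] at h1
  have hcpos : 0 < c := Nat.card_pos
  have hq1 : 2 * (2 * q * w * u) = q * (q + 1) * (q - 1) := by
    rcases O.eps with ⟨e1, e2⟩ | ⟨e1, e2⟩
    · rw [e1, e2, Nat.add_sub_cancel]; ring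
    · obtain rfl : u = w + 1 := e2.symm
      obtain rfl : q = 2 * w + 1 := by omega
      rw [Nat.add_sub_cancel]; ring
  rw [hq1] at h1
  have hq0 : 1 < q := by obtain ⟨-, -, -, -, -, -, -, h, -⟩ := O.ne; have := O.hu; rcases O.eps with ⟨e1, e2⟩ | ⟨e1, e2⟩ <;> omega
  rcases Nat.lt_trichotomy c q with hlt | heq | hgt
  · exfalso
    have : c * (c + 1) * (c - 1) < q * (q + 1) * (q - 1) :=
      Nat.mul_lt_mul_of_lt_of_le (Nat.mul_lt_mul_of_lt_of_le hlt (by omega) (by omega)) (by omega)
        (by omega)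
    omega
  · exact heq
  · exfalso
    have : q * (q + 1) * (q - 1) < c * (c + 1) * (c - 1) :=
      Nat.mul_lt_mul_of_lt_of_le (Nat.mul_lt_mul_of_lt_of_le hgt (by omega) (by omega)) (by omega)
        (by omega)
    omega

theorem q_lt : q + 1 < u * w := by
  have := O.hu
  rcases O.eps with ⟨h1, h2⟩ | ⟨h1, h2⟩
  · subst h1 h2; nlinarith
  · obtain rfl : u = w + 1 := h2.symm
    obtain rfl : q = 2 * w + 1 := by omega
    nlinarith

/-- No proper normal subgroup has an abelian quotient. -/
theorem eq_top_of_commutator_le {M : Subgroup L} [M.Normal] (hM : commutator L ≤ M) : M = ⊤ := by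
  classical
  by_contra hne
  obtain ⟨cq, cw, d1, d2, D1, D2, hd⟩ := O.counts
  obtain ⟨hti, h2u, hone, hw, hu⟩ := O.tight
  obtain ⟨hq2, hw2, -, -, -, -, -, hwq, huq, hw0⟩ := O.ne
  have hu4 := O.hu
  have hhalf : ∀ N : Subgroup L, N ≠ ⊤ → 2 * Nat.card N ≤ Nat.card L := by
    intro N hN
    rw [← N.card_mul_index, mul_comm]
    exact Nat.mul_le_mul_left _ (N.one_lt_index_of_ne_top hN)
  by_cases hidx : 2 ∣ M.index
  · -- a proper subgroup containing all elements of odd order
    let π := QuotientGroup.mk' M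
    have hcomm : ∀ a b : L ⧸ M, a * b = b * a := by
      intro a b
      induction a using QuotientGroup.induction_on with
      | _ x =>
        induction b using QuotientGroup.induction_on with
        | _ y =>
          rw [← QuotientGroup.mk_mul, ← QuotientGroup.mk_mul, QuotientGroup.eq]
          refine hM ?_
          rw [show (x * y)⁻¹ * (y * x) = ⁅y⁻¹, x⁻¹⁆ by rw [commutatorElement_def]; group]
          exact commutator_mem_commutator (mem_top _) (mem_top _)
    let sq : L ⧸ M →* L ⧸ M := MonoidHom.mk' (fun a => a * a) fun a b => by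
      show a * b * (a * b) = a * a * (b * b)
      rw [mul_assoc, ← mul_assoc b a b, hcomm b a]; group
    haveI := Fact.mk Nat.prime_two
    have hsq : sq.range ≠ ⊤ := by
      intro e
      obtain ⟨a, ha⟩ := exists_prime_orderOf_dvd_card' (G := L ⧸ M) 2 (by rwa [← index_eq_card])
      have hinj : Function.Injective sq :=
        (Finite.injective_iff_surjective).2 (MonoidHom.range_eq_top.1 e)
      exact involution_ne_one ha (hinj ((involution_sq ha).trans (one_mul 1).symm))
    set N := sq.range.comap π with hN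
    have hNne : N ≠ ⊤ := fun e => hsq (by
      rw [← map_comap_eq_self_of_surjective (QuotientGroup.mk'_surjective M) sq.range, ← hN, e,
        map_top_of_surjective _ (QuotientGroup.mk'_surjective M)])
    have hodd : ∀ g : L, ¬ 2 ∣ cC g → g ∈ N := by
      intro g hg
      have h2 : ¬ 2 ∣ orderOf g := fun h => hg (h.trans (orderOf_dvd_cC g))
      obtain ⟨m, hm⟩ := exists_pow_eq_self_of_coprime
        ((Nat.Prime.coprime_iff_not_dvd Nat.prime_two).2 h2)
      refine ⟨π (g ^ m), ?_⟩
      show π (g ^ m) * π (g ^ m) = π g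
      rw [← map_mul, ← pow_add, show m + m = 2 * m by omega, pow_mul, hm]
    have hsub : cSet L q ∪ cSet L w ⊆ (univ : Finset L).filter (fun g => g ∈ N) := by
      intro g hg
      simp only [mem_filter, mem_univ, true_and]
      refine hodd g ?_
      rcases mem_union.1 hg with h | h <;> rw [(mem_cSet.1 h).2] <;> omega
    have h1 := Finset.card_le_card hsub
    rw [card_union_of_disjoint (by
      rw [Finset.disjoint_left]; intro x h1 h2; rw [mem_cSet] at h1 h2; omega), cq, cw,
      ← Fintype.card_subtype, ← Nat.card_eq_fintype_card] at h1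
    have h2 := hhalf N hNne
    rw [O.card] at h2
    have h3 : 4 * u * w + q * u * (w - 1) ≤ q * w * u :=
      h1.trans (Nat.le_of_mul_le_mul_left (by linarith) (by norm_num : 0 < 2))
    obtain ⟨v, rfl⟩ : ∃ v, w = v + 1 := ⟨w - 1, by omega⟩
    rw [Nat.add_sub_cancel] at h3
    rcases O.eps with ⟨e1, e2⟩ | ⟨e1, e2⟩
    · obtain rfl : u = v := by omega
      subst e1; nlinarith
    · obtain rfl : u = v + 1 + 1 := e2.symm
      obtain rfl : q = 2 * v + 3 := by omega
      nlinarith
  · -- `M` contains all involutions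
    have hT : ∀ a : L, orderOf a = 2 → a ∈ M := by
      intro a ha
      rw [← QuotientGroup.eq_one_iff (N := M)]
      have h1 : orderOf (QuotientGroup.mk' M a) ∣ 2 := ha ▸ orderOf_map_dvd _ a
      have h2 : orderOf (QuotientGroup.mk' M a) ∣ M.index := index_eq_card M ▸ orderOf_dvd_natCard _
      rcases (Nat.dvd_prime Nat.prime_two).1 h1 with e | e
      · exact orderOf_eq_one_iff.1 e
      · exact absurd (e ▸ h2) hidx
    have hsub : cSet L w ∪ cSet L u ∪ invol L ⊆ (univ : Finset L).filter (fun g => g ∈ M) := by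
      intro g hg
      simp only [mem_filter, mem_univ, true_and]
      have key : (inverters g).Nonempty → g ∈ M := by
        rintro ⟨a, ha⟩
        obtain ⟨ha, hag⟩ := mem_inverters.1 ha
        have := mul_mem (hT a ha) (hT _ hag)
        rwa [← mul_assoc, involution_sq ha, one_mul] at this
      rcases mem_union.1 hg with h | h
      · rcases mem_union.1 h with h | h
        · exact key (Finset.card_pos.1 (by rw [hw g h]; exact hw0))
        · exact key (Finset.card_pos.1 (by rw [hu g h]; omega))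
      · exact hT g (mem_invol.1 h)
    have h1 := Finset.card_le_card hsub
    rw [card_union_of_disjoint, card_union_of_disjoint, cw, D2, O.card_invol,
      ← Fintype.card_subtype, ← Nat.card_eq_fintype_card] at h1
    rotate_left
    · rw [Finset.disjoint_left]; intro x h1 h2; rw [mem_cSet] at h1 h2
      have := O.ne.2.2.2.2.1
      omega
    · rw [Finset.disjoint_left]
      intro x h1 h2
      rw [← h2u] at h2
      rcases mem_union.1 h1 with h | h <;> rw [mem_cSet] at h h2 <;> omega
    have h2 := hhalf M hne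
    rw [O.card] at h2
    rw [h2u, O.card_invol] at D1
    have hd1 : d1 = 1 := by
      have hpos : 0 < q * w := Nat.mul_pos (by omega) hw0
      have := Nat.eq_of_mul_eq_mul_right hpos ((one_mul (q * w)).trans D1)
      omega
    have hdd : d2 * (2 * (q * w)) + q * w + q * w = u * (q * w) := by
      rw [← hd, hd1]; ring
    have h3 : q * u * (w - 1) + d2 * (2 * (q * w)) + q * w ≤ q * w * u :=
      h1.trans (Nat.le_of_mul_le_mul_left (by linarith) (by norm_num : 0 < 2))
    have h4 := Nat.mul_lt_mul_of_pos_left O.q_lt (show 0 < q by omega)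
    obtain ⟨v, rfl⟩ : ∃ v, w = v + 1 := ⟨w - 1, by omega⟩
    rw [Nat.add_sub_cancel] at h3
    rcases O.eps with ⟨e1, e2⟩ | ⟨e1, e2⟩
    · obtain rfl : u = v := by omega
      subst e1; nlinarith
    · obtain rfl : u = v + 1 + 1 := e2.symm
      obtain rfl : q = 2 * v + 3 := by omega
      nlinarith

theorem commutator_eq_top : commutator L = ⊤ := O.eq_top_of_commutator_le le_rfl

theorem isSimple : IsSimpleGroup L := by
  classical
  haveI := Fact.mk O.hp
  obtain ⟨hq2, hw2, -, -, -, -, -, hwq, huq, hw0⟩ := O.ne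
  have hu4 := O.hu
  obtain ⟨Q, D, h, hQ⟩ := O.exists_conclusion
  have hQS : ∀ x ∈ Q, x ≠ 1 → x ∈ cSet L q := fun x hx hx1 =>
    mem_cSet.2 ⟨hx1, by unfold cC; rw [h.cent x hx hx1, hQ]⟩
  haveI : Nontrivial L := Finite.one_lt_card_iff_nontrivial.1 (by
    rw [O.card]
    calc 1 < 2 * q := by omega
      _ ≤ 2 * q * w := Nat.le_mul_of_pos_right _ hw0
      _ ≤ 2 * q * w * u := Nat.le_mul_of_pos_right _ (by omega))
  refine ⟨fun N hN => ?_⟩
  by_contra hcon
  push Not at hcon
  obtain ⟨hb, ht⟩ := hcon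
  haveI := hN
  -- `N` contains an element of order `p`
  have hpN : p ∣ Nat.card N := by
    by_contra hp
    have hno : ∀ x ∈ N, x ∉ cSet L q := by
      intro x hx hxq
      have hoq : orderOf x ∣ p ^ f := by rw [← O.hq, ← (mem_cSet.1 hxq).2]; exact orderOf_dvd_cC x
      obtain ⟨j, -, hj⟩ := (Nat.dvd_prime_pow O.hp).1 hoq
      refine hp ((?_ : p ∣ orderOf x).trans (Subgroup.orderOf_dvd_natCard N hx))
      rw [hj]
      refine dvd_pow_self p fun e => (mem_cSet.1 hxq).1 (orderOf_eq_one_iff.1 (by rw [hj, e, pow_zero]))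
    set NF := ((univ : Finset L).filter fun g => g ∈ N) with hNF
    have hdiv : ∀ c : ℕ, 0 < c → ∀ r, Nat.card L = c * r →
        ∃ m, (NF ∩ cSet L c).card = m * r := by
      intro c hc r hr
      obtain ⟨m, hm⟩ := exists_card_mul_eq (c := c) (NF ∩ cSet L c) (fun g x hx => by
        rw [mem_inter] at hx ⊢
        simp only [hNF, mem_filter, mem_univ, true_and] at hx ⊢
        exact ⟨hN.conj_mem _ hx.1 g, conj_mem_cSet g hx.2⟩) fun x hx => (mem_cSet.1 (mem_inter.1 hx).2).2
      exact ⟨m, Nat.eq_of_mul_eq_mul_left hc (by rw [hm, hr]; ring)⟩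
    obtain ⟨mw, hmw⟩ := hdiv w hw0 (2 * q * u) (by rw [O.card]; ring)
    obtain ⟨m1, hm1⟩ := hdiv (2 * u) (by omega) (q * w) (by rw [O.card]; ring)
    obtain ⟨m2, hm2⟩ := hdiv u (by omega) (2 * (q * w)) (by rw [O.card]; ring)
    have hNc : Nat.card N = 1 + mw * (2 * q * u) + m1 * (q * w) + m2 * (2 * (q * w)) := by
      have key := O.sum_eq fun g => if g ∈ N then 1 else 0
      rw [if_pos N.one_mem, ← card_filter, sum_eq_zero (fun g hg => if_neg fun h => hno g h hg),
        ← card_filter, ← card_filter, ← card_filter] at key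
      have e : ∀ c, ((cSet L c).filter fun g => g ∈ N) = NF ∩ cSet L c := fun c => by
        ext g; simp [hNF, and_comm]
      rw [e, e, e, hmw, hm1, hm2, ← Fintype.card_subtype, ← Nat.card_eq_fintype_card] at key
      simpa using key
    have hNd : Nat.card N ∣ 2 * w * u := by
      have h1 := card_subgroup_dvd_card N
      rw [O.card, show 2 * q * w * u = p ^ f * (2 * w * u) by rw [O.hq]; ring] at h1
      exact (Nat.Coprime.pow_right f ((Nat.Prime.coprime_iff_not_dvd O.hp).2 hp).symm).dvd_of_dvd_mul_left h1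
    have hN1 : 1 < Nat.card N := (one_lt_card_iff_ne_bot N).2 hb
    have hq1 : q * w + 1 ≤ Nat.card N := by
      rw [hNc]
      rcases Nat.eq_zero_or_pos mw with e | e
      · rcases Nat.eq_zero_or_pos m1 with e1 | e1
        · rcases Nat.eq_zero_or_pos m2 with e2 | e2
          · rw [e, e1, e2] at hNc; omega
          · nlinarith
        · nlinarith
      · have h5 : q * w ≤ 2 * q * u := by
          rw [mul_assoc, mul_left_comm]
          exact Nat.mul_le_mul_left q (by rcases O.eps with ⟨e1, e2⟩ | ⟨e1, e2⟩ <;> omega)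
        have := Nat.le_mul_of_pos_left (2 * q * u) e
        omega
    obtain ⟨k, hk⟩ := hNd
    have hk1 : k = 1 := by
      rcases Nat.lt_or_ge k 2 with hk2 | hk2
      · rcases Nat.eq_zero_or_pos k with rfl | h0
        · have : 0 < 2 * w * u := by positivity
          omega
        · omega
      · have h5 : 2 * (q * w + 1) ≤ 2 * w * u := by
          rw [hk, mul_comm]; exact Nat.mul_le_mul hq1 hk2
        nlinarith
    rw [hk1, mul_one] at hk
    have hd : q ∣ 2 * (2 * w * u) - 2 := ⟨2 * (mw * (2 * u) + m1 * w + m2 * 2 * w), by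
      rw [hk, hNc]
      have : 2 * (1 + mw * (2 * q * u) + m1 * (q * w) + m2 * (2 * (q * w))) =
          q * (2 * (mw * (2 * u) + m1 * w + m2 * 2 * w)) + 2 := by ring
      omega⟩
    obtain ⟨d, hd⟩ := hd
    have h4 : 2 * (2 * w * u) + 1 = q * q := by
      rcases O.eps with ⟨e1, e2⟩ | ⟨e1, e2⟩
      · subst e1 e2; ring
      · obtain rfl : u = w + 1 := e2.symm
        obtain rfl : q = 2 * w + 1 := by omega
        ring
    have h5 : q * q = q * d + 3 := by
      have : 0 < 2 * w * u := by positivity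
      omega
    have h6 : q ∣ 3 := (Nat.dvd_add_right (Dvd.intro d rfl)).1 (h5 ▸ Dvd.intro q rfl)
    have := Nat.le_of_dvd (by norm_num) h6
    omega
  -- the Sylow subgroup of `N` inside `Q`
  obtain ⟨P⟩ := (inferInstance : Nonempty (Sylow p N))
  have hPsub : IsPGroup p ((P : Subgroup N).map N.subtype) := P.2.map _
  obtain ⟨R, hR⟩ := hPsub.exists_le_sylow
  have hQp : IsPGroup p Q := IsPGroup.of_card (hQ.trans O.hq)
  obtain ⟨QS, hQS'⟩ := hQp.exists_le_sylow
  have hQeq : Q = (QS : Subgroup L) :=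
    eq_of_le_of_card_ge hQS' (le_of_eq ((O.sylow_card QS).trans hQ.symm))
  obtain ⟨g, hg⟩ := MulAction.exists_smul_eq L R QS
  have hne : ((P : Subgroup N).map N.subtype) ≠ ⊥ := by
    intro e
    rw [map_eq_bot_iff_of_injective _ N.subtype_injective] at e
    have := P.not_dvd_index
    rw [e, index_bot] at this
    exact this hpN
  set P' := ((P : Subgroup N).map N.subtype).map (MulAut.conj g).toMonoidHom with hP'
  have hP'Q : P' ≤ Q := by
    rw [hQeq, ← hg, hP', Sylow.coe_subgroup_smul]
    exact map_mono hR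
  have hnorm : normalizer (P' : Set L) ≤ normalizer (Q : Set L) := by
    obtain ⟨⟨y, hy⟩, hy1⟩ := Subgroup.ne_bot_iff_exists_ne_one.mp
      (show P' ≠ ⊥ by rwa [hP', Ne, map_eq_bot_iff_of_injective _ (MulAut.conj g).injective])
    have hy1' : y ≠ 1 := fun e => hy1 (Subtype.ext e)
    intro z hz
    have hzy : z * y * z⁻¹ ∈ Q := hP'Q ((mem_normalizer_iff.1 hz y).1 hy)
    have e1 := h.cent _ hzy (fun e => hy1' (conj_eq_one_iff.1 e))
    rw [centralizer_conj, h.cent y (hP'Q hy) hy1'] at e1
    rw [mem_normalizer_iff]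
    intro x
    conv_rhs => rw [← e1]
    simp only [Subgroup.mem_map, MulEquiv.coe_toMonoidHom, MulAut.conj_apply]
    exact ⟨fun hx => ⟨x, hx, rfl⟩, fun ⟨a, ha, e⟩ => by
      rwa [show x = a from (mul_left_cancel (mul_right_cancel e)).symm]⟩
  have hsup : normalizer (P' : Set L) ⊔ N = ⊤ := by
    have h1 := congrArg (Subgroup.map (MulAut.conj g).toMonoidHom) (Sylow.normalizer_sup_eq_top P)
    rw [Subgroup.map_sup, map_top_of_surjective _ (MulAut.conj g).surjective,
      map_equiv_normalizer_eq] at h1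
    rwa [show N.map (MulAut.conj g).toMonoidHom = N from Subgroup.Normal.map_conj_eq N g] at h1
  have hQD : N ⊔ (Q ⊔ D) = ⊤ := by
    rw [← h.norm_eq, eq_top_iff, ← hsup]
    exact sup_le (hnorm.trans le_sup_right) le_sup_left
  -- the quotient is perfect and solvable
  have hM1 : N ⊔ Q = ⊤ := by
    have hnn : (N ⊔ Q).Normal := by
      rw [← normalizer_eq_top_iff, eq_top_iff, ← hQD]
      refine sup_le ((le_sup_left : N ≤ N ⊔ Q).trans le_normalizer) ?_
      rw [← h.norm_eq]
      intro x hx
      rw [mem_normalizer_iff]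
      have key : ∀ c ∈ normalizer (Q : Set L), ∀ a ∈ N ⊔ Q, c * a * c⁻¹ ∈ N ⊔ Q := by
        intro c hc a ha
        rw [← SetLike.mem_coe, normal_mul] at ha
        obtain ⟨b, hb, e, he, rfl⟩ := ha
        rw [show c * (b * e) * c⁻¹ = c * b * c⁻¹ * (c * e * c⁻¹) by group]
        exact mul_mem (mem_sup_left (hN.conj_mem _ hb c))
          (mem_sup_right ((mem_normalizer_iff.1 hc e).1 he))
      refine fun a => ⟨key x hx a, fun ha => ?_⟩
      have := key x⁻¹ (inv_mem hx) _ ha
      rwa [show x⁻¹ * (x * a * x⁻¹) * x⁻¹⁻¹ = a by group] at this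
    haveI := hnn
    refine O.eq_top_of_commutator_le ?_
    rw [_root_.commutator_def, Subgroup.commutator_le]
    intro a _ b _
    rw [← QuotientGroup.eq_one_iff (N := N ⊔ Q)]
    show QuotientGroup.mk' (N ⊔ Q) ⁅a, b⁆ = 1
    rw [map_commutatorElement, commutatorElement_eq_one_iff_mul_comm]
    have hD : ∀ x : L, ∃ d ∈ D, QuotientGroup.mk' (N ⊔ Q) x = QuotientGroup.mk' (N ⊔ Q) d := by
      intro x
      have hx : x ∈ (((N ⊔ Q) ⊔ D : Subgroup L) : Set L) := by
        rw [SetLike.mem_coe, sup_assoc, hQD]; exact mem_top x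
      rw [normal_mul] at hx
      obtain ⟨c, hc, d, hd, rfl⟩ := hx
      refine ⟨d, hd, ?_⟩
      rw [map_mul, show QuotientGroup.mk' (N ⊔ Q) c = 1 from (QuotientGroup.eq_one_iff c).2 hc,
        one_mul]
    obtain ⟨d, hd, ea⟩ := hD a
    obtain ⟨e, he, eb⟩ := hD b
    rw [ea, eb, ← map_mul, ← map_mul]
    exact congrArg _ (congrArg Subtype.val (h.comm.is_comm.comm (⟨d, hd⟩ : D) ⟨e, he⟩))
  refine ht (O.eq_top_of_commutator_le ?_)
  rw [_root_.commutator_def, Subgroup.commutator_le]
  intro a _ b _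
  rw [← QuotientGroup.eq_one_iff (N := N)]
  show QuotientGroup.mk' N ⁅a, b⁆ = 1
  rw [map_commutatorElement, commutatorElement_eq_one_iff_mul_comm]
  have hQ' : ∀ x : L, ∃ c ∈ Q, QuotientGroup.mk' N x = QuotientGroup.mk' N c := by
    intro x
    have hx : x ∈ ((N ⊔ Q : Subgroup L) : Set L) := by rw [hM1]; exact mem_top x
    rw [normal_mul] at hx
    obtain ⟨n, hn, c, hc, rfl⟩ := hx
    refine ⟨c, hc, ?_⟩
    rw [map_mul, show QuotientGroup.mk' N n = 1 from (QuotientGroup.eq_one_iff n).2 hn, one_mul]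
  obtain ⟨c, hc, ea⟩ := hQ' a
  obtain ⟨e, he, eb⟩ := hQ' b
  rw [ea, eb, ← map_mul, ← map_mul]
  congr 1
  rcases eq_or_ne e 1 with rfl | he1
  · simp
  · exact mem_centralizer_singleton_iff.1 (show c ∈ centralizer ({e} : Set L) by rw [h.cent e he he1]; exact hc)

/-- The group is `PSL(2, q)`. -/
theorem exists_iso : ∃ (F : Type) (_ : Field F) (_ : Fintype F), Fintype.card F = q ∧
    Nonempty (L ≃* Matrix.ProjectiveSpecialLinearGroup (Fin 2) F) := by
  haveI := O.isSimple
  obtain ⟨Q, D, h, hQ⟩ := O.exists_conclusion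
  obtain ⟨F, iF, iF2, hodd, ⟨e⟩⟩ := h.exists_psl
  refine ⟨F, iF, iF2, ?_, ⟨e⟩⟩
  have h1 : 2 * Nat.card L = Fintype.card F * (Fintype.card F ^ 2 - 1) := by
    rw [Nat.card_congr e.toEquiv]
    exact CfsgLib.Geo.PGLTwo.two_mul_card_psl hodd
  have h2 := h.card_eq
  rw [hQ] at h2
  set c := Fintype.card F with hc
  have hcpos : 1 < c := Fintype.one_lt_card
  have hq2 : 1 < q := by rw [O.hq]; exact Nat.one_lt_pow O.hf.ne' O.hp.one_lt
  have e1 : c * (c ^ 2 - 1) = c * (c + 1) * (c - 1) := by
    rw [mul_assoc]; congr 1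
    rw [← Nat.sq_sub_sq, one_pow]
  rw [e1, h2] at h1
  rcases Nat.lt_trichotomy c q with hlt | heq | hgt
  · exfalso
    have : c * (c + 1) * (c - 1) < q * (q + 1) * (q - 1) :=
      Nat.mul_lt_mul_of_lt_of_le (Nat.mul_lt_mul_of_lt_of_le hlt (by omega) (by omega)) (by omega)
        (by omega)
    omega
  · exact heq
  · exfalso
    have : q * (q + 1) * (q - 1) < c * (c + 1) * (c - 1) :=
      Nat.mul_lt_mul_of_lt_of_le (Nat.mul_lt_mul_of_lt_of_le hgt (by omega) (by omega)) (by omega)
        (by omega)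
    omega

end OddData

end CfsgLib.Recog.ClassSizesPSL
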