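import Cfsg.Agent.Lib.Recog.ClassSizesPSL.Basic

/-!
# Splitting off the centre

If commuting pairs of the perfect central quotient lift to commuting pairs and its Sylow subgroups
have abelian subgroups of index at most two, the derived subgroup is a complement to the centre.
-/

set_option autoImplicit false
set_option linter.all false

namespace CfsgLib.Recog.ClassSizesPSL

open Subgroup
open scoped commutatorElement

variable {G : Type*} [Group G] [Finite G]

theorem sup_center_eq_top (hperf : commutator (G ⧸ center G) = ⊤) :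
    commutator G ⊔ center G = ⊤ := by
  have h1 : (commutator G).map (QuotientGroup.mk' (center G)) = ⊤ := by
    rw [_root_.commutator_def, Subgroup.map_commutator,
      map_top_of_surjective _ (QuotientGroup.mk'_surjective _), ← _root_.commutator_def, hperf]
  rw [← QuotientGroup.ker_mk' (center G), ← comap_map_eq, h1, comap_top]

theorem commutator_perfect (hperf : commutator (G ⧸ center G) = ⊤) :
    commutator G ≤ ⁅commutator G, commutator G⁆ := by
  rw [_root_.commutator_def, Subgroup.commutator_le]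
  intro a _ b _
  have key : ∀ x : G, ∃ y ∈ commutator G, ∃ z ∈ center G, x = y * z := by
    intro x
    have hx : x ∈ ((commutator G ⊔ center G : Subgroup G) : Set G) := by
      rw [sup_center_eq_top hperf]; exact mem_top x
    rw [Subgroup.normal_mul] at hx
    obtain ⟨y, hy, z, hz, e⟩ := hx
    exact ⟨y, hy, z, hz, e.symm⟩
  obtain ⟨a', ha', z, hz, rfl⟩ := key a
  obtain ⟨b', hb', z', hz', rfl⟩ := key b
  have e1 : ⁅a' * z, b' * z'⁆ = ⁅a', b'⁆ := by
    rw [commutatorElement_def, commutatorElement_def]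
    have hzc := mem_center_iff.1 hz
    have hzc' := mem_center_iff.1 hz'
    calc a' * z * (b' * z') * (a' * z)⁻¹ * (b' * z')⁻¹
        = a' * (z * b') * (z' * z⁻¹) * a'⁻¹ * z'⁻¹ * b'⁻¹ := by group
      _ = a' * (b' * z) * (z⁻¹ * z') * a'⁻¹ * z'⁻¹ * b'⁻¹ := by
          rw [← hzc b', mem_center_iff.1 (inv_mem hz) z']
      _ = a' * b' * (z' * a'⁻¹) * z'⁻¹ * b'⁻¹ := by group
      _ = a' * b' * a'⁻¹ * b'⁻¹ := by rw [← hzc' a'⁻¹]; group
  rw [e1, ← _root_.commutator_def]
  exact commutator_mem_commutator ha' hb'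

theorem exists_complement (hperf : commutator (G ⧸ center G) = ⊤)
    (hlift : ∀ g k : G, g * k * g⁻¹ * k⁻¹ ∈ center G → Commute g k)
    (hsyl : ∀ r : ℕ, r.Prime → ∀ R : Sylow r (G ⧸ center G), ∃ R0 : Subgroup (G ⧸ center G),
      (∀ a ∈ R0, ∀ b ∈ R0, a * b = b * a) ∧
        ∀ a ∈ (R : Subgroup (G ⧸ center G)), ∀ b ∈ (R : Subgroup (G ⧸ center G)),
          a ∉ R0 → b ∉ R0 → a⁻¹ * b ∈ R0) :
    commutator G ⊓ center G = ⊥ ∧ Nonempty (commutator G ≃* G ⧸ center G) := by
  classical
  set π := QuotientGroup.mk' (center G) with hπ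
  have hker : ∀ x : G, π x = 1 ↔ x ∈ center G := fun x => QuotientGroup.eq_one_iff x
  have hbot : commutator G ⊓ center G = ⊥ := by
    rw [eq_bot_iff]
    intro x hx
    refine CfsgLib.ClassSizes.TwoSizes.mem_of_primary ⊥ x fun y hy r k hr hk => ?_
    obtain ⟨hyG, hyZ⟩ : y ∈ commutator G ∧ y ∈ center G := Subgroup.mem_inf.1 (zpowers_le.2 hx hy)
    rw [mem_bot]
    haveI := Fact.mk hr
    let yN : commutator G := ⟨y, hyG⟩
    obtain ⟨R, hR⟩ := (IsPGroup.of_card (n := k) (by
      rw [Nat.card_zpowers, ← Subgroup.orderOf_coe, hk]) : IsPGroup r (zpowers yN)).exists_le_sylow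
    -- the transfer puts `y` in the derived subgroup of `R`
    let φ : (R : Subgroup (commutator G)) →* Abelianization (R : Subgroup (commutator G)) :=
      Abelianization.of
    have hyR : yN ∈ (R : Subgroup (commutator G)) := hR (mem_zpowers yN)
    have hVy : (φ.transfer yN) = φ ⟨yN ^ (R : Subgroup (commutator G)).index, pow_mem hyR _⟩ := by
      refine MonoidHom.transfer_eq_pow φ yN ?_
      intro j g _
      have hc : yN ^ j * g = g * yN ^ j := Subtype.ext (by
        push_cast
        exact (mem_center_iff.1 (pow_mem hyZ j) g).symm)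
      rw [mul_assoc, hc, inv_mul_cancel_left]
    have hV1 : φ.transfer yN = 1 := by
      have h1 : yN ∈ _root_.commutator (commutator G) := by
        have h2 : (_root_.commutator (commutator G)).map (commutator G).subtype =
            ⁅commutator G, commutator G⁆ := Subgroup.map_subtype_commutator _
        have h3 : y ∈ (_root_.commutator (commutator G)).map (commutator G).subtype := by
          rw [h2]; exact commutator_perfect hperf hyG
        obtain ⟨z, hz, e⟩ := h3
        rwa [show yN = z from Subtype.ext e.symm]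
      exact Abelianization.commutator_subset_ker φ.transfer h1
    rw [hV1] at hVy
    have hker' : (⟨yN ^ (R : Subgroup (commutator G)).index, pow_mem hyR _⟩ :
        (R : Subgroup (commutator G))) ∈ _root_.commutator (R : Subgroup (commutator G)) := by
      exact (Abelianization.ker_of (R : Subgroup (commutator G))).le hVy.symm
    have hyR' : (⟨yN, hyR⟩ : (R : Subgroup (commutator G))) ∈
        _root_.commutator (R : Subgroup (commutator G)) := by
      have hco : (R : Subgroup (commutator G)).index.Coprime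
          (orderOf (⟨yN, hyR⟩ : (R : Subgroup (commutator G)))) := by
        rw [← Subgroup.orderOf_coe, ← Subgroup.orderOf_coe, hk]
        exact Nat.Coprime.pow_right _
          ((Nat.Prime.coprime_iff_not_dvd hr).2 R.not_dvd_index).symm
      obtain ⟨m, hm⟩ := exists_pow_eq_self_of_coprime hco
      rw [← hm]
      refine pow_mem ?_ m
      exact hker'
    -- the image
    set RG : Subgroup G := (R : Subgroup (commutator G)).map (commutator G).subtype with hRG
    have hy' : y ∈ ⁅RG, RG⁆ := by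
      have h2 : ((_root_.commutator (R : Subgroup (commutator G))).map
          (R : Subgroup (commutator G)).subtype).map (commutator G).subtype = ⁅RG, RG⁆ := by
        rw [Subgroup.map_subtype_commutator, Subgroup.map_commutator]
      rw [← h2]
      exact ⟨yN, ⟨⟨yN, hyR⟩, hyR', rfl⟩, rfl⟩
    obtain ⟨P, hP⟩ := ((R.2.map (commutator G).subtype).map π).exists_le_sylow
    obtain ⟨R0, hab, hidx⟩ := hsyl r hr P
    have hcomm : ∀ a b : G, π a ∈ R0 → π b ∈ R0 → Commute a b := fun a b ha hb =>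
      hlift a b (by
        rw [← hker, map_mul, map_mul, map_mul, map_inv, map_inv, hab _ ha _ hb]; group)
    by_cases hall : ∀ a ∈ RG, π a ∈ R0
    · have h0 : ⁅RG, RG⁆ ≤ (⊥ : Subgroup G) := by
        rw [Subgroup.commutator_le]
        intro a ha b hb
        rw [mem_bot, commutatorElement_eq_one_iff_mul_comm]
        exact hcomm a b (hall a ha) (hall b hb)
      exact mem_bot.1 (h0 hy')
    push Not at hall
    obtain ⟨s, hs, hs0⟩ := hall
    set A : Subgroup G := RG ⊓ R0.comap π with hA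
    have hdiv : ∀ a ∈ RG, a ∈ A ∨ s⁻¹ * a ∈ A := by
      intro a ha
      by_cases h : π a ∈ R0
      · exact Or.inl ⟨ha, h⟩
      · refine Or.inr ⟨(mul_mem (inv_mem hs) ha : s⁻¹ * a ∈ RG), ?_⟩
        show π (s⁻¹ * a) ∈ R0
        rw [map_mul, map_inv]
        exact hidx _ (hP ⟨s, hs, rfl⟩) _ (hP ⟨a, ha, rfl⟩) hs0 h
    have hnorm : ∀ a ∈ A, s * a * s⁻¹ ∈ A := by
      intro a ha
      rcases hdiv _ (mul_mem (mul_mem hs ha.1) (inv_mem hs)) with h | h
      · exact h
      · exfalso
        have h1 : π (s⁻¹ * (s * a * s⁻¹)) ∈ R0 := h.2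
        have h2 : π a ∈ R0 := ha.2
        rw [show s⁻¹ * (s * a * s⁻¹) = a * s⁻¹ by group, map_mul, map_inv] at h1
        have h3 := mul_mem (inv_mem h2) h1
        rw [inv_mul_cancel_left, inv_mem_iff] at h3
        exact hs0 h3
    let ψ : A → G := fun a => (a : G) * s * (a : G)⁻¹ * s⁻¹
    have hψ : ∀ a : A, ψ a ∈ A := fun a => by
      show (a : G) * s * (a : G)⁻¹ * s⁻¹ ∈ A
      rw [show (a : G) * s * (a : G)⁻¹ * s⁻¹ = (a : G) * (s * (a : G)⁻¹ * s⁻¹) by group]
      exact mul_mem a.2 (hnorm _ (inv_mem a.2))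
    have hψm : ∀ a b : A, ψ (a * b) = ψ a * ψ b := fun a b => by
      show (a : G) * b * s * ((a : G) * b)⁻¹ * s⁻¹ = ψ a * ψ b
      have hb := hψ b
      calc (a : G) * b * s * ((a : G) * b)⁻¹ * s⁻¹
          = (a : G) * ψ b * (a : G)⁻¹ * ψ a := by simp only [ψ]; group
        _ = ψ b * ψ a := by rw [(hcomm _ _ a.2.2 hb.2).eq]; group
        _ = ψ a * ψ b := (hcomm _ _ (hψ b).2 (hψ a).2).eq
    let Ψ : A →* G := MonoidHom.mk' ψ hψm
    have hI : ⁅RG, RG⁆ ≤ Ψ.range := by
      rw [Subgroup.commutator_le]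
      intro a ha b hb
      rcases hdiv a ha with h1 | h1 <;> rcases hdiv b hb with h2 | h2
      · rw [(commutatorElement_eq_one_iff_mul_comm).2 (hcomm a b h1.2 h2.2).eq]
        exact one_mem _
      · refine ⟨⟨a, h1⟩, ?_⟩
        show a * s * a⁻¹ * s⁻¹ = ⁅a, b⁆
        rw [commutatorElement_def, show b = s * (s⁻¹ * b) by group]
        have hc := (hcomm (s⁻¹ * b) a⁻¹ h2.2 (inv_mem h1 : a⁻¹ ∈ A).2).eq
        symm
        calc a * (s * (s⁻¹ * b)) * a⁻¹ * (s * (s⁻¹ * b))⁻¹
            = a * s * (s⁻¹ * b * a⁻¹) * (s * (s⁻¹ * b))⁻¹ := by group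
          _ = a * s * (a⁻¹ * (s⁻¹ * b)) * (s * (s⁻¹ * b))⁻¹ := by rw [hc]
          _ = a * s * a⁻¹ * s⁻¹ := by group
      · refine ⟨⟨b, h2⟩⁻¹, ?_⟩
        rw [map_inv]
        show (b * s * b⁻¹ * s⁻¹)⁻¹ = ⁅a, b⁆
        rw [commutatorElement_def, show a = s * (s⁻¹ * a) by group]
        have hc := (hcomm (s⁻¹ * a) b h1.2 h2.2).eq
        symm
        calc s * (s⁻¹ * a) * b * (s * (s⁻¹ * a))⁻¹ * b⁻¹
            = s * (s⁻¹ * a * b) * (s * (s⁻¹ * a))⁻¹ * b⁻¹ := by group
          _ = s * (b * (s⁻¹ * a)) * (s * (s⁻¹ * a))⁻¹ * b⁻¹ := by rw [hc]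
          _ = _ := by group
      · set c := s⁻¹ * a with hc
        set d := s⁻¹ * b with hd
        have e1 : d * c⁻¹ ∈ A := mul_mem h2 (inv_mem h1)
        refine ⟨(⟨s * (d * c⁻¹) * s⁻¹, hnorm _ e1⟩ : A)⁻¹, ?_⟩
        rw [map_inv]
        show (s * (d * c⁻¹) * s⁻¹ * s * (s * (d * c⁻¹) * s⁻¹)⁻¹ * s⁻¹)⁻¹ = ⁅a, b⁆
        rw [commutatorElement_def, show a = s * c by rw [hc]; group,
          show b = s * d by rw [hd]; group]
        symm
        calc s * c * (s * d) * (s * c)⁻¹ * (s * d)⁻¹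
            = s * (c * (s * (d * c⁻¹) * s⁻¹) * d⁻¹) * s⁻¹ := by group
          _ = s * (s * (d * c⁻¹) * s⁻¹ * c * d⁻¹) * s⁻¹ := by
              rw [(hcomm c _ h1.2 (hnorm _ e1).2).eq]
          _ = _ := by simp only [mul_inv_rev, inv_inv, inv_mul_cancel_left, mul_inv_cancel_left, mul_assoc]
    obtain ⟨⟨a, ha⟩, e⟩ := hI hy'
    have hc : Commute a s := hlift a s (by
      show a * s * a⁻¹ * s⁻¹ ∈ center G
      rw [show a * s * a⁻¹ * s⁻¹ = y from e]
      exact hyZ)
    rw [← e]
    show a * s * a⁻¹ * s⁻¹ = 1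
    rw [hc.eq]; group
  refine ⟨hbot, ⟨MulEquiv.ofBijective (π.comp (commutator G).subtype) ⟨?_, ?_⟩⟩⟩
  · rw [injective_iff_map_eq_one]
    intro a ha
    have : (a : G) ∈ commutator G ⊓ center G := ⟨a.2, (hker _).1 ha⟩
    rw [hbot, mem_bot] at this
    exact Subtype.ext this
  · intro x
    obtain ⟨g, rfl⟩ := QuotientGroup.mk'_surjective _ x
    have hx : g ∈ ((commutator G ⊔ center G : Subgroup G) : Set G) := by
      rw [sup_center_eq_top hperf]; exact mem_top g
    rw [Subgroup.normal_mul] at hx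
    obtain ⟨a, ha, z, hz, rfl⟩ := hx
    refine ⟨⟨a, ha⟩, ?_⟩
    show π a = π (a * z)
    rw [map_mul, (hker z).2 hz, mul_one]

end CfsgLib.Recog.ClassSizesPSL
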