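import Cfsg.Agent.Lib.Recog.ClassSizesPSL.Quot
import Cfsg.Agent.Lib.Recog.ClassSizesPSL.OddRecog
import Cfsg.Agent.Lib.Recog.ClassSizesPSL.Even
import Cfsg.Agent.Lib.Recog.ClassSizesPSL.Split
import Cfsg.Agent.Lib.Classical.Dickson.PSL
import Cfsg.Agent.Lib.Classical.PSLTwoSimple

/-!
# Groups with the class sizes of `PSL(2, q)`
-/

set_option autoImplicit false
set_option linter.all false

namespace CfsgLib.Recog.ClassSizesPSL

open Subgroup
open CfsgLib.Signalizer (involution_ne_one)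
open scoped MatrixGroups

variable {G : Type*} [Group G] [Finite G]

theorem exists_sub_two {p q : ℕ} (hq : q % 2 = 1) (h7 : 7 ≤ q) :
    ∃ u w, ((q = 2 * u + 1 ∧ w = u + 1) ∨ (q + 1 = 2 * u ∧ w + 1 = u)) ∧ 2 ∣ u ∧ 4 ≤ u ∧
      (q % 4 = 1 → q = 2 * u + 1) ∧ (q % 4 = 3 → q + 1 = 2 * u) := by
  rcases (show q % 4 = 1 ∨ q % 4 = 3 by omega) with h | h
  · exact ⟨q / 2, q / 2 + 1, Or.inl ⟨by omega, rfl⟩, by omega, by omega, fun _ => by omega,
      fun h' => by omega⟩
  · exact ⟨(q + 1) / 2, (q + 1) / 2 - 1, Or.inr ⟨by omega, by omega⟩, by omega, by omega,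
      fun h' => by omega, fun _ => by omega⟩

theorem odd_coprimes {q u w : ℕ} (heps : (q = 2 * u + 1 ∧ w = u + 1) ∨ (q + 1 = 2 * u ∧ w + 1 = u))
    (heven : 2 ∣ u) (hu : 4 ≤ u) : q.Coprime (2 * u) ∧ q.Coprime w ∧ w.Coprime (2 * u) := by
  have key : ∀ a b : ℕ, (∀ r, r.Prime → r ∣ a → r ∣ b → r ∣ 1) → a.Coprime b := fun a b h =>
    Nat.coprime_of_dvd fun r hr ha hb => hr.not_dvd_one (h r hr ha hb)
  rcases heps with ⟨h1, h2⟩ | ⟨h1, h2⟩
  · refine ⟨key _ _ fun r _ ha hb => ?_, key _ _ fun r _ ha hb => ?_, ?_⟩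
    · exact (Nat.dvd_add_right hb).1 (h1 ▸ ha)
    · refine (Nat.dvd_add_right ha).1 ?_
      rw [show q + 1 = 2 * w by omega]; exact hb.mul_left 2
    · refine Nat.Coprime.mul_right ?_ (key _ _ fun r _ ha hb => (Nat.dvd_add_right hb).1 (h2 ▸ ha))
      exact ((Nat.Prime.coprime_iff_not_dvd Nat.prime_two).2 (by omega)).symm
  · refine ⟨key _ _ fun r _ ha hb => ?_, key _ _ fun r _ ha hb => ?_, ?_⟩
    · exact (Nat.dvd_add_right ha).1 (h1 ▸ hb)
    · rw [show q = 2 * w + 1 by omega] at ha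
      exact (Nat.dvd_add_right (hb.mul_left 2)).1 ha
    · refine Nat.Coprime.mul_right ?_ (key _ _ fun r _ ha hb => (Nat.dvd_add_right ha).1 (h2 ▸ hb))
      exact ((Nat.Prime.coprime_iff_not_dvd Nat.prime_two).2 (by omega)).symm

theorem sizes_odd {p f q u w : ℕ} (hp : p.Prime) (hf : 0 < f) (hq : q = p ^ f)
    (heps : (q = 2 * u + 1 ∧ w = u + 1) ∨ (q + 1 = 2 * u ∧ w + 1 = u)) (heven : 2 ∣ u) (hu : 4 ≤ u)
    (h : Set.range (fun g : G => cI g) = ({1, 2 * u * w, q * w, 2 * q * u, 2 * q * w} : Set ℕ)) :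
    Sizes G p f (2 * u * w) (2 * u) (q * w) (2 * q * w) := by
  obtain ⟨hqu, hqw, hwu⟩ := odd_coprimes heps heven hu
  have hw3 : 3 ≤ w := by rcases heps with ⟨h1, h2⟩ | ⟨h1, h2⟩ <;> omega
  have hq7 : 7 ≤ q := by rcases heps with ⟨h1, h2⟩ | ⟨h1, h2⟩ <;> omega
  have hpq : p ∣ q := hq ▸ dvd_pow_self p hf.ne'
  have hnp : ∀ X, q.Coprime X → ¬ p ∣ X := fun X hc hd =>
    hp.not_dvd_one (hc ▸ Nat.dvd_gcd hpq hd)
  have hqA : q.Coprime (2 * u * w) := hqu.mul_right hqw
  have hqnA : ∀ X, ¬ q * X ∣ 2 * u * w := fun X hd => by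
    have := (hqA.eq_one_of_dvd ((dvd_mul_right q X).trans hd))
    omega
  have hAX : ∀ X, 2 * u * w ∣ q * X → 2 * u * w ∣ X := fun X hd => hqA.symm.dvd_of_dvd_mul_left hd
  have hsz : ∀ g : G, cI g = 1 ∨ cI g = 2 * u * w ∨ cI g = p ^ f * (2 * u) ∨ cI g = q * w ∨
      cI g = 2 * q * w := by
    intro g
    have hg : cI g ∈ ({1, 2 * u * w, q * w, 2 * q * u, 2 * q * w} : Set ℕ) := h ▸ ⟨g, rfl⟩
    rcases hg with e | e | e | e | e
    · exact Or.inl e
    · exact Or.inr (Or.inl e)
    · exact Or.inr (Or.inr (Or.inr (Or.inl e)))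
    · exact Or.inr (Or.inr (Or.inl (by rw [e, ← hq]; ring)))
    · exact Or.inr (Or.inr (Or.inr (Or.inr e)))
  have hex : ∀ k ∈ ({1, 2 * u * w, q * w, 2 * q * u, 2 * q * w} : Set ℕ), ∃ g : G, cI g = k :=
    fun k hk => by rw [← h] at hk; exact hk
  refine
    { hp := hp, hf := hf, sizes := hsz, hA := hex _ (by simp),
      hE := by
        obtain ⟨g, hg⟩ := hex (2 * q * u) (by simp)
        exact ⟨g, by rw [hg, ← hq]; ring⟩
      hD := hex _ (by simp), hpA := hnp _ hqA, hpE' := hnp _ hqu, primeA := ?_, notBoth := ?_,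
      one_lt := ⟨by nlinarith, by nlinarith⟩, maxA := ?_, maxE := ?_, maxD := ?_,
      dvdD := ⟨2, by ring⟩, minA := ?_, minE := ?_, minD := ?_, minD' := ?_ }
  · obtain ⟨r, hr, hrw⟩ := Nat.exists_prime_and_dvd (show w ≠ 1 by omega)
    refine ⟨r, hr, hrw.mul_left _, fun e => hnp w hqw (e ▸ hrw), fun hd => ?_⟩
    exact hr.not_dvd_one (hwu ▸ Nat.dvd_gcd hrw hd)
  · intro r hr hrp hrE hrD
    rcases hr.dvd_mul.1 hrD with h' | h'
    · exact hrp ((Nat.prime_dvd_prime_iff_eq hr hp).1 (hr.dvd_of_dvd_pow (hq ▸ h')))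
    · exact hr.not_dvd_one (hwu ▸ Nat.dvd_gcd h' hrE)
  · rintro k (rfl | rfl | rfl) hd
    · rw [← hq] at hd
      have := Nat.le_of_dvd (by omega) (hAX _ hd)
      nlinarith
    · have := Nat.le_of_dvd (by omega) (hAX _ hd)
      nlinarith
    · have := Nat.le_of_dvd (by omega) (hAX (2 * w) (by rwa [show q * (2 * w) = 2 * q * w by ring]))
      nlinarith
  · rintro k (rfl | rfl | rfl) hd <;> rw [← hq] at hd
    · exact hqnA _ hd
    · have h1 := Nat.le_of_dvd one_pos
        ((Nat.Coprime.symm hwu).eq_one_of_dvd (Nat.dvd_of_mul_dvd_mul_left (by omega) hd) ▸ dvd_rfl : 2 * u ∣ 1)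
      omega
    · rw [show 2 * q * w = q * (2 * w) by ring] at hd
      have h1 := Nat.dvd_of_mul_dvd_mul_left (by omega : 0 < q) hd
      have h2 : u ∣ w := Nat.dvd_of_mul_dvd_mul_left two_pos h1
      have h3 : u ∣ 1 := by
        rw [← Nat.Coprime.gcd_eq_one hwu]; exact Nat.dvd_gcd h2 (dvd_mul_left u 2)
      have := Nat.le_of_dvd one_pos h3
      omega
  · rintro k (rfl | rfl) hd
    · exact hqnA _ hd
    · rw [← hq] at hd
      have h1 := Nat.dvd_of_mul_dvd_mul_left (by omega : 0 < q) hd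
      have := hwu.eq_one_of_dvd h1
      omega
  · rintro k (rfl | rfl | rfl) hd
    · rw [← hq] at hd; exact hqnA _ hd
    · exact hqnA _ hd
    · exact hqnA (2 * w) (by rwa [show q * (2 * w) = 2 * q * w by ring])
  · rintro k (rfl | rfl | rfl) hd <;> rw [← hq] at hd
    · have := Nat.le_of_dvd (by omega) (hAX _ hd)
      nlinarith
    · have h1 := Nat.dvd_of_mul_dvd_mul_left (by omega : 0 < q) hd
      have := hwu.eq_one_of_dvd h1
      omega
    · rw [show 2 * q * w = q * (2 * w) by ring] at hd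
      have h1 := Nat.dvd_of_mul_dvd_mul_left (by omega : 0 < q) hd
      have h2 : w ∣ u := Nat.dvd_of_mul_dvd_mul_left two_pos h1
      have := hwu.eq_one_of_dvd (h2.mul_left 2)
      omega
  · rintro k (rfl | rfl) hd
    · have := Nat.le_of_dvd (by omega) (hAX _ hd)
      nlinarith
    · rw [← hq] at hd
      have h1 := Nat.dvd_of_mul_dvd_mul_left (by omega : 0 < q) hd
      have := (Nat.Coprime.symm hwu).eq_one_of_dvd h1
      omega
  · intro hd
    have := Nat.le_of_dvd (by nlinarith) hd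
    nlinarith

theorem cQ_eq {a b n : ℕ} {g : G} (hb : 0 < b) (h1 : cQ g * cI g = n) (h2 : cI g = b)
    (h3 : n = a * b) : cQ g = a :=
  Nat.eq_of_mul_eq_mul_right hb (by rw [← h2, h1, h3, h2])

theorem lift_of_mem_center {g : G} (hg : g ∈ center G) :
    cC (QuotientGroup.mk' (center G) g) = cQ g := by
  have h1 : QuotientGroup.mk' (center G) g = 1 := (QuotientGroup.eq_one_iff g).2 hg
  have h2 : centralizer ({(1 : G ⧸ center G)} : Set (G ⧸ center G)) = ⊤ :=
    eq_top_iff.2 fun x _ => mem_centralizer_singleton_iff.2 (by simp)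
  have h3 := cQ_mul_cI g
  rw [cI_eq_one_iff.2 hg, mul_one] at h3
  unfold cC
  rw [h1, h2, card_top, h3, ← index_eq_card]

/-- A Sylow subgroup lies in the centraliser of one of its elements of order `r`. -/
theorem sylow_central {L : Type*} [Group L] [Finite L] {r : ℕ} (hr : r.Prime) (R : Sylow r L) :
    (∀ a ∈ (R : Subgroup L), a = 1) ∨
      ∃ z : L, orderOf z = r ∧ z ∈ (R : Subgroup L) ∧ (R : Subgroup L) ≤ centralizer ({z} : Set L) := by
  haveI := Fact.mk hr
  by_cases hb : (R : Subgroup L) = ⊥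
  · exact Or.inl fun a ha => by rwa [hb, mem_bot] at ha
  haveI : Nontrivial (R : Subgroup L) := (R : Subgroup L).nontrivial_iff_ne_bot.2 hb
  haveI : Nontrivial (center (R : Subgroup L)) := R.2.center_nontrivial
  obtain ⟨k, hk⟩ := IsPGroup.iff_card.1 (R.2.to_subgroup (center (R : Subgroup L)))
  have hk0 : k ≠ 0 := fun e => by
    rw [e, pow_zero] at hk
    have := Finite.one_lt_card (α := center (R : Subgroup L))
    omega
  obtain ⟨z, hz⟩ := exists_prime_orderOf_dvd_card' (G := center (R : Subgroup L)) r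
    (by rw [hk]; exact dvd_pow_self r hk0)
  refine Or.inr ⟨((z : (R : Subgroup L)) : L), by rw [Subgroup.orderOf_coe, Subgroup.orderOf_coe, hz],
    (z : (R : Subgroup L)).2, fun s hs => mem_centralizer_singleton_iff.2
      (congrArg Subtype.val (mem_center_iff.1 z.2 ⟨s, hs⟩))⟩

theorem commutator_eq_top_of_iso {L : Type*} [Group L] {F : Type*} [Field F] [Fintype F]
    (h4 : 4 ≤ Fintype.card F) (e : L ≃* Matrix.ProjectiveSpecialLinearGroup (Fin 2) F) :
    commutator L = ⊤ := by
  have h1 : commutator (Matrix.ProjectiveSpecialLinearGroup (Fin 2) F) = ⊤ := by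
    have := CfsgLib.Classical.commutator_SL_two_eq_top h4
    rw [_root_.commutator_def, ← map_top_of_surjective _
      (QuotientGroup.mk'_surjective (center (SL(2, F)))), ← Subgroup.map_commutator,
      ← _root_.commutator_def, this]
  have h2 : (commutator L).map e.toMonoidHom = commutator (Matrix.ProjectiveSpecialLinearGroup (Fin 2) F) := by
    rw [_root_.commutator_def, Subgroup.map_commutator,
      map_top_of_surjective _ e.surjective, ← _root_.commutator_def]
  refine map_injective (f := e.toMonoidHom) e.injective ?_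
  rw [h2, h1, map_top_of_surjective _ e.surjective]

theorem transport {L : Type*} [Group L] {F : Type*} [Field F] [Fintype F] {q : ℕ}
    (hF : Fintype.card F = q)
    (h : ∃ (K : Type) (_ : Field K) (_ : Fintype K), Fintype.card K = q ∧
      Nonempty (L ≃* Matrix.ProjectiveSpecialLinearGroup (Fin 2) K)) :
    Nonempty (L ≃* Matrix.ProjectiveSpecialLinearGroup (Fin 2) F) := by
  obtain ⟨K, iK, iK2, hK, ⟨e⟩⟩ := h
  exact ⟨e.trans (CfsgLib.Classical.Dickson.pslCongr
    (FiniteField.ringEquivOfCardEq (hK.trans hF.symm)))⟩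

theorem odd_main {F : Type*} [Field F] [Fintype F] {p f q u w : ℕ} (hp : p.Prime) (hf : 0 < f)
    (hq : q = p ^ f) (hF : Fintype.card F = q)
    (heps : (q = 2 * u + 1 ∧ w = u + 1) ∨ (q + 1 = 2 * u ∧ w + 1 = u)) (heven : 2 ∣ u) (hu : 4 ≤ u)
    (h : Set.range (fun g : G => cI g) = ({1, 2 * u * w, q * w, 2 * q * u, 2 * q * w} : Set ℕ)) :
    Nonempty (G ⧸ center G ≃* Matrix.ProjectiveSpecialLinearGroup (Fin 2) F) ∧
      commutator G ⊓ center G = ⊥ ∧ commutator G ⊔ center G = ⊤ ∧
      Nonempty (commutator G ≃* G ⧸ center G) := by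
  classical
  have S := sizes_odd hp hf hq heps heven hu h
  obtain ⟨hqu, hqw, hwu⟩ := odd_coprimes heps heven hu
  have hw0 : 0 < w := by rcases heps with ⟨h1, h2⟩ | ⟨h1, h2⟩ <;> omega
  have hq0 : 0 < q := by rcases heps with ⟨h1, h2⟩ | ⟨h1, h2⟩ <;> omega
  have hn : (center G).index = q * (2 * u * w) := by rw [S.index_center, hq]
  have hN : ∀ g : G, cQ g * cI g = q * (2 * u * w) := fun g => (cQ_mul_cI g).trans hn
  have hcl : ∀ g : G, g ∉ center G →
      cC (QuotientGroup.mk' (center G) g) = q ∧ cQ g = q ∨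
      cC (QuotientGroup.mk' (center G) g) = w ∧ cQ g = w ∨
      cC (QuotientGroup.mk' (center G) g) = 2 * u ∧ cQ g = 2 * u ∧ cI g = q * w ∨
      (cC (QuotientGroup.mk' (center G) g) = u ∨ cC (QuotientGroup.mk' (center G) g) = 2 * u) ∧
        cQ g = u ∧ cI g = 2 * q * w := by
    intro g hg
    rcases S.sizes g with e | e | e | e | e
    · exact absurd (cI_eq_one_iff.1 e) hg
    · have hc : cQ g = q := cQ_eq (by positivity) (hN g) e rfl
      exact Or.inl ⟨cC_mk_eq hc hn (hqu.mul_right hqw), hc⟩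
    · rw [← hq] at e
      have hc : cQ g = w := cQ_eq (by positivity) (hN g) e (by ring)
      exact Or.inr (Or.inl ⟨cC_mk_eq hc (hn.trans (by ring : _ = w * (2 * u * q)))
        (hwu.mul_right hqw.symm), hc⟩)
    · have hc : cQ g = 2 * u := cQ_eq (by positivity) (hN g) e (by ring)
      exact Or.inr (Or.inr (Or.inl ⟨cC_mk_eq hc (hn.trans (by ring : _ = 2 * u * (q * w)))
        (hqu.symm.mul_right hwu.symm), hc, e⟩))
    · have hc : cQ g = u := cQ_eq (by positivity) (hN g) e (by ring)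
      refine Or.inr (Or.inr (Or.inr ⟨cC_mk_cases hc (hn.trans (by ring : _ = u * (2 * (q * w))))
        ?_, hc, e⟩))
      exact Nat.Coprime.mul_right
        ((hqu.symm.coprime_dvd_left (dvd_mul_left u 2))) (hwu.symm.coprime_dvd_left (dvd_mul_left u 2))
  haveI : Fintype (G ⧸ center G) := Fintype.ofFinite _
  have O : OddData (G ⧸ center G) p f q w u := by
    refine ⟨hp, hf, hq, ?_, heps, heven, hu, fun x hx => ?_⟩
    · rw [← index_eq_card, hn]; ring
    · obtain ⟨g, rfl⟩ := QuotientGroup.mk'_surjective _ x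
      rcases hcl g (fun hg => hx ((QuotientGroup.eq_one_iff g).2 hg)) with
        ⟨e, -⟩ | ⟨e, -⟩ | ⟨e, -⟩ | ⟨e | e, -⟩
      · exact Or.inl e
      · exact Or.inr (Or.inl e)
      · exact Or.inr (Or.inr (Or.inl e))
      · exact Or.inr (Or.inr (Or.inr e))
      · exact Or.inr (Or.inr (Or.inl e))
  have hinv : ∀ g : G, g ∉ center G → cC (QuotientGroup.mk' (center G) g) = 2 * u →
      orderOf (QuotientGroup.mk' (center G) g) = 2 := by
    intro g hg hc
    have hmem : QuotientGroup.mk' (center G) g ∈ cSet (G ⧸ center G) (2 * u) :=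
      mem_cSet.2 ⟨fun h => hg ((QuotientGroup.eq_one_iff g).1 h), hc⟩
    rwa [O.tight.2.1, mem_invol] at hmem
  obtain ⟨-, -, -, n2, n3, n4, n5, -⟩ := O.ne
  -- lifting
  have hlift : ∀ g : G, cC (QuotientGroup.mk' (center G) g) = cQ g := by
    intro g
    by_cases hg : g ∈ center G
    · exact lift_of_mem_center hg
    rcases hcl g hg with ⟨e, e'⟩ | ⟨e, e'⟩ | ⟨e, e', -⟩ | ⟨he, e', hI⟩
    · rw [e, e']
    · rw [e, e']
    · rw [e, e']
    · rcases he with e | e
      · rw [e, e']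
      · exfalso
        -- an element of size `q * w` maps onto an involution, conjugate to the image of `g`
        obtain ⟨g0, hg0⟩ := S.hD
        have hg0c : g0 ∉ center G := fun hc => by
          rw [cI_eq_one_iff.2 hc] at hg0
          have : 1 < q * w := S.one_lt.2
          omega
        have h0 : cC (QuotientGroup.mk' (center G) g0) = 2 * u := by
          rcases hcl g0 hg0c with ⟨-, e0⟩ | ⟨-, e0⟩ | ⟨e0, -⟩ | ⟨-, -, e0⟩
          · have := hN g0
            rw [e0, hg0] at this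
            have h3 := Nat.eq_of_mul_eq_mul_left hq0 this
            have h4 : q = 2 * u := Nat.eq_of_mul_eq_mul_right hw0 h3
            omega
          · have := hN g0
            rw [e0, hg0] at this
            have h4 : w = 2 * u := Nat.eq_of_mul_eq_mul_right (Nat.mul_pos hq0 hw0)
              (this.trans (by ring))
            omega
          · exact e0
          · rw [hg0] at e0
            have : 0 < q * w := Nat.mul_pos hq0 hw0
            have : 2 * q * w = 2 * (q * w) := by ring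
            omega
        obtain ⟨c, hc⟩ := isConj_iff.1 (O.isConj_invol (hinv g0 hg0c h0) (hinv g hg e))
        obtain ⟨c, rfl⟩ := QuotientGroup.mk'_surjective _ c
        rw [← map_inv, ← map_mul, ← map_mul] at hc
        obtain ⟨z, hz, hzg⟩ : ∃ z ∈ center G, g = c * g0 * c⁻¹ * z :=
          ⟨(c * g0 * c⁻¹)⁻¹ * g, QuotientGroup.eq.1 hc, by group⟩
        have h5 : cI g = q * w := by
          rw [hzg]
          show (centralizer ({c * g0 * c⁻¹ * z} : Set G)).index = _
          rw [centralizer_mul_central hz]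
          exact (cI_conj c g0).trans hg0
        rw [hI, show 2 * q * w = 2 * (q * w) by ring] at h5
        have : 0 < q * w := Nat.mul_pos hq0 hw0
        omega
  have hperf := O.commutator_eq_top
  obtain ⟨Q, D, hQD, hQ⟩ := O.exists_conclusion
  have hsyl : ∀ r : ℕ, r.Prime → ∀ R : Sylow r (G ⧸ center G), ∃ R0 : Subgroup (G ⧸ center G),
      (∀ a ∈ R0, ∀ b ∈ R0, a * b = b * a) ∧
        ∀ a ∈ (R : Subgroup (G ⧸ center G)), ∀ b ∈ (R : Subgroup (G ⧸ center G)),
          a ∉ R0 → b ∉ R0 → a⁻¹ * b ∈ R0 := by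
    intro r hr R
    rcases sylow_central hr R with htriv | ⟨z, hz, hzR, hle⟩
    · exact ⟨⊥, fun a ha b hb => by rw [mem_bot] at ha hb; rw [ha, hb],
        fun a ha b _ ha' _ => absurd (mem_bot.2 (htriv a ha)) ha'⟩
    have hz1 : z ≠ 1 := fun e => by
      rw [e, orderOf_one] at hz
      exact hr.one_lt.ne hz
    by_cases hr2 : r = 2
    · subst hr2
      obtain ⟨K, hKH, -, hKc, hab, -, -, -⟩ := O.exists_dihedral hz
      refine ⟨K, hab, fun a ha b hb ha' hb' => ?_⟩
      have hidx : (K.subgroupOf (centralizer ({z} : Set (G ⧸ center G)))).index = 2 := by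
        have h1 := (K.subgroupOf (centralizer ({z} : Set (G ⧸ center G)))).card_mul_index
        rw [Nat.card_congr (subgroupOfEquivOfLe hKH).toEquiv, hKc,
          show Nat.card (centralizer ({z} : Set (G ⧸ center G))) = 2 * u from O.cC_invol hz,
          mul_comm 2 u] at h1
        exact Nat.eq_of_mul_eq_mul_left (by omega) h1
      have h2 := (mul_mem_iff_of_index_two hidx
        (a := ⟨a⁻¹, inv_mem (hle ha)⟩) (b := ⟨b, hle hb⟩)).2
      refine mem_subgroupOf.1 (h2 ?_)
      simp only [mem_subgroupOf, inv_mem_iff]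
      exact ⟨fun h => absurd h ha', fun h => absurd h hb'⟩
    · have hab : ∀ a ∈ centralizer ({z} : Set (G ⧸ center G)),
          ∀ b ∈ centralizer ({z} : Set (G ⧸ center G)), a * b = b * a := by
        rcases O.cls z hz1 with e | e | e | e
        · obtain ⟨P, hP⟩ := O.exists_sylow_eq (mem_cSet.2 ⟨hz1, e⟩)
          haveI := Fact.mk hp
          obtain ⟨P', hP'⟩ := (IsPGroup.of_card (hQ.trans hq) : IsPGroup p Q).exists_le_sylow
          have hQP' : Q = (P' : Subgroup (G ⧸ center G)) :=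
            eq_of_le_of_card_ge hP' (le_of_eq ((O.sylow_card P').trans hQ.symm))
          obtain ⟨c, hc⟩ := MulAction.exists_smul_eq (G ⧸ center G) P P'
          intro a ha b hb
          have hmem : ∀ x ∈ centralizer ({z} : Set (G ⧸ center G)), c * x * c⁻¹ ∈ Q := by
            intro x hx
            rw [hQP', ← hc, Sylow.coe_subgroup_smul, mem_pointwise_smul_iff_inv_smul_mem, hP,
              show (MulAut.conj c)⁻¹ • (c * x * c⁻¹) = x from by
                rw [MulAut.smul_def, MulAut.conj_inv_apply]; group]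
            exact hx
          have h1 : c * a * c⁻¹ * (c * b * c⁻¹) = c * b * c⁻¹ * (c * a * c⁻¹) := by
            by_cases hb1 : c * b * c⁻¹ = 1
            · rw [hb1]; simp
            · exact mem_centralizer_singleton_iff.1
                ((hQD.cent _ (hmem b hb) hb1).symm ▸ hmem a ha)
          have h2 := congrArg (fun x => c⁻¹ * x * c) h1
          simpa [mul_assoc] using h2
        · exact O.comm_cent_w (mem_cSet.2 ⟨hz1, e⟩)
        · exfalso
          have hmem : z ∈ cSet (G ⧸ center G) (2 * u) := mem_cSet.2 ⟨hz1, e⟩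
          rw [O.tight.2.1, mem_invol, hz] at hmem
          exact hr2 hmem
        · exact O.comm_cent_u (mem_cSet.2 ⟨hz1, e⟩)
      exact ⟨centralizer ({z} : Set (G ⧸ center G)), hab,
        fun a ha b _ ha' _ => absurd (hle ha) ha'⟩
  obtain ⟨h1, h2⟩ := exists_complement hperf
    (fun g k hk => commute_of_cC_eq hlift hk) hsyl
  exact ⟨transport hF O.exists_iso, h1, sup_center_eq_top hperf, h2⟩

theorem sizes_even {f q : ℕ} (hf : 2 ≤ f) (hq : q = 2 ^ f)
    (h : Set.range (fun g : G => cI g) =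
      ({1, q * (q - 1), q ^ 2 - 1, q * (q + 1)} : Set ℕ)) :
    Sizes G 2 f ((q - 1) * (q + 1)) (q - 1) (q * (q + 1)) (q * (q + 1)) := by
  have hq4 : 4 ≤ q := by
    rw [hq]; exact le_trans (by norm_num) (Nat.pow_le_pow_right two_pos hf)
  have hq2 : 2 ∣ q := hq ▸ dvd_pow_self 2 (by omega)
  obtain ⟨v, rfl⟩ : ∃ v, q = v + 1 := ⟨q - 1, by omega⟩
  rw [Nat.add_sub_cancel] at h ⊢
  have hA : (v + 1) ^ 2 - 1 = v * (v + 1 + 1) := by
    rw [show (v + 1) ^ 2 = v * (v + 1 + 1) + 1 by ring, Nat.add_sub_cancel]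
  rw [hA] at h
  set q := v + 1 with hqv
  have hqv' : q.Coprime v := by rw [hqv]; simp
  have hqw : q.Coprime (q + 1) := by simp
  have hvw : v.Coprime (q + 1) := Nat.coprime_of_dvd fun r hr h1 h2 => by
    have h3 : r ∣ 2 := (Nat.dvd_add_right h1).1 (by rw [show v + 2 = q + 1 by omega]; exact h2)
    have h4 : r = 2 := (Nat.prime_dvd_prime_iff_eq hr Nat.prime_two).1 h3
    subst h4
    omega
  have hqA : q.Coprime (v * (q + 1)) := hqv'.mul_right hqw
  have hqnA : ∀ X, ¬ q * X ∣ v * (q + 1) := fun X hd => by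
    have := hqA.eq_one_of_dvd ((dvd_mul_right q X).trans hd)
    omega
  have hAX : ∀ X, v * (q + 1) ∣ q * X → v * (q + 1) ∣ X := fun X hd =>
    hqA.symm.dvd_of_dvd_mul_left hd
  have hnq : ∀ X, q.Coprime X → ¬ 2 ∣ X := fun X hc hd =>
    Nat.prime_two.not_dvd_one (hc ▸ Nat.dvd_gcd hq2 hd)
  have hex : ∀ k ∈ ({1, q * v, v * (q + 1), q * (q + 1)} : Set ℕ), ∃ g : G, cI g = k :=
    fun k hk => by rw [← h] at hk; exact hk
  have hsz : ∀ g : G, cI g = 1 ∨ cI g = v * (q + 1) ∨ cI g = 2 ^ f * v ∨ cI g = q * (q + 1) ∨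
      cI g = q * (q + 1) := by
    intro g
    have hg : cI g ∈ ({1, q * v, v * (q + 1), q * (q + 1)} : Set ℕ) := h ▸ ⟨g, rfl⟩
    rcases hg with e | e | e | e
    · exact Or.inl e
    · exact Or.inr (Or.inr (Or.inl (by rw [e, hq])))
    · exact Or.inr (Or.inl e)
    · exact Or.inr (Or.inr (Or.inr (Or.inl e)))
  refine
    { hp := Nat.prime_two, hf := by omega, sizes := hsz, hA := hex _ (by simp),
      hE := by
        obtain ⟨g, hg⟩ := hex (q * v) (by simp)
        exact ⟨g, by rw [hg, hq]⟩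
      hD := hex _ (by simp), hpA := hnq _ hqA, hpE' := hnq _ hqv', primeA := ?_, notBoth := ?_,
      one_lt := ⟨by nlinarith, by nlinarith⟩, maxA := ?_, maxE := ?_, maxD := ?_,
      dvdD := dvd_rfl, minA := ?_, minE := ?_, minD := ?_, minD' := fun _ => rfl }
  · obtain ⟨r, hr, hrw⟩ := Nat.exists_prime_and_dvd (show q + 1 ≠ 1 by omega)
    refine ⟨r, hr, hrw.mul_left _, fun e => hnq _ hqw (e ▸ hrw), fun hd => ?_⟩
    exact hr.not_dvd_one (hvw ▸ Nat.dvd_gcd hd hrw)
  · intro r hr hrp hrE hrD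
    rcases hr.dvd_mul.1 hrD with h' | h'
    · exact hrp ((Nat.prime_dvd_prime_iff_eq hr Nat.prime_two).1 (hr.dvd_of_dvd_pow (hq ▸ h')))
    · exact hr.not_dvd_one (hvw ▸ Nat.dvd_gcd hrE h')
  · rintro k (rfl | rfl | rfl) hd
    · rw [← hq] at hd
      have := Nat.le_of_dvd (by omega) (hAX _ hd)
      nlinarith
    all_goals
      have := Nat.le_of_dvd (by omega) (hAX _ hd)
      nlinarith
  · rintro k (rfl | rfl | rfl) hd <;> rw [← hq] at hd
    · exact hqnA _ hd
    all_goals
      have := hvw.eq_one_of_dvd (Nat.dvd_of_mul_dvd_mul_left (by omega) hd)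
      omega
  · rintro k (rfl | rfl) hd
    · exact hqnA _ hd
    · rw [← hq] at hd
      have := hvw.symm.eq_one_of_dvd (Nat.dvd_of_mul_dvd_mul_left (by omega) hd)
      omega
  · rintro k (rfl | rfl | rfl) hd
    · rw [← hq] at hd; exact hqnA _ hd
    all_goals exact hqnA _ hd
  · rintro k (rfl | rfl | rfl) hd <;> rw [← hq] at hd
    · have := Nat.le_of_dvd (by omega) (hAX _ hd)
      nlinarith
    all_goals
      have := hvw.symm.eq_one_of_dvd (Nat.dvd_of_mul_dvd_mul_left (by omega) hd)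
      omega
  · rintro k (rfl | rfl) hd
    · have := Nat.le_of_dvd (by omega) (hAX _ hd)
      nlinarith
    · rw [← hq] at hd
      have := hvw.eq_one_of_dvd (Nat.dvd_of_mul_dvd_mul_left (by omega) hd)
      omega

theorem even_main {F : Type*} [Field F] [Fintype F] {f q : ℕ} (hf : 2 ≤ f) (hq : q = 2 ^ f)
    (hF : Fintype.card F = q)
    (h : Set.range (fun g : G => cI g) = ({1, q * (q - 1), q ^ 2 - 1, q * (q + 1)} : Set ℕ)) :
    Nonempty (G ⧸ center G ≃* Matrix.ProjectiveSpecialLinearGroup (Fin 2) F) ∧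
      commutator G ⊓ center G = ⊥ ∧ commutator G ⊔ center G = ⊤ ∧
      Nonempty (commutator G ≃* G ⧸ center G) := by
  classical
  have S := sizes_even hf hq h
  have hq4 : 4 ≤ q := by
    rw [hq]; exact le_trans (by norm_num) (Nat.pow_le_pow_right two_pos hf)
  have hq2 : 2 ∣ q := hq ▸ dvd_pow_self 2 (by omega)
  obtain ⟨v, hv⟩ : ∃ v, q - 1 = v := ⟨_, rfl⟩
  rw [hv] at S
  have hqv : q.Coprime v := by
    rw [show q = v + 1 by omega]; simp
  have hqw : q.Coprime (q + 1) := by simp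
  have hvw : v.Coprime (q + 1) := Nat.coprime_of_dvd fun r hr h1 h2 => by
    have h3 : r ∣ 2 := (Nat.dvd_add_right h1).1 (by rw [show v + 2 = q + 1 by omega]; exact h2)
    have h4 : r = 2 := (Nat.prime_dvd_prime_iff_eq hr Nat.prime_two).1 h3
    subst h4
    omega
  have hn : (center G).index = q * (v * (q + 1)) := by rw [S.index_center, hq]
  have hN : ∀ g : G, cQ g * cI g = q * (v * (q + 1)) := fun g => (cQ_mul_cI g).trans hn
  have hv0 : 0 < v := by omega
  have hcl : ∀ g : G, g ∉ center G →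
      cC (QuotientGroup.mk' (center G) g) = cQ g ∧ (cQ g = q ∨ cQ g = v ∨ cQ g = q + 1) := by
    intro g hg
    rcases S.sizes g with e | e | e | e | e
    · exact absurd (cI_eq_one_iff.1 e) hg
    · have hc : cQ g = q := cQ_eq (by positivity) (hN g) e rfl
      exact ⟨(cC_mk_eq hc hn (hqv.mul_right hqw)).trans hc.symm, Or.inl hc⟩
    · rw [← hq] at e
      have hc : cQ g = q + 1 := cQ_eq (by positivity) (hN g) e (by ring)
      exact ⟨(cC_mk_eq hc (hn.trans (by ring : _ = (q + 1) * (q * v)))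
        (hqw.symm.mul_right hvw.symm)).trans hc.symm, Or.inr (Or.inr hc)⟩
    all_goals
      have hc : cQ g = v := cQ_eq (by positivity) (hN g) e (by ring)
      exact ⟨(cC_mk_eq hc (hn.trans (by ring : _ = v * (q * (q + 1))))
        (hqv.symm.mul_right hvw)).trans hc.symm, Or.inr (Or.inl hc)⟩
  haveI : Fintype (G ⧸ center G) := Fintype.ofFinite _
  have O : EvenData (G ⧸ center G) f q v (q + 1) := by
    refine ⟨hf, hq, by omega, rfl, ?_, fun x hx => ?_⟩
    · rw [← index_eq_card, hn]; ring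
    · obtain ⟨g, rfl⟩ := QuotientGroup.mk'_surjective _ x
      obtain ⟨e, hc⟩ := hcl g (fun hg => hx ((QuotientGroup.eq_one_iff g).2 hg))
      rw [e]; exact hc
  have hlift : ∀ g : G, cC (QuotientGroup.mk' (center G) g) = cQ g := fun g => by
    by_cases hg : g ∈ center G
    · exact lift_of_mem_center hg
    · exact (hcl g hg).1
  have hiso := O.exists_iso
  have hperf : commutator (G ⧸ center G) = ⊤ := by
    obtain ⟨K, iK, iK2, hK, ⟨e⟩⟩ := hiso
    exact commutator_eq_top_of_iso (hK ▸ hq4) e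
  have hsyl : ∀ r : ℕ, r.Prime → ∀ R : Sylow r (G ⧸ center G), ∃ R0 : Subgroup (G ⧸ center G),
      (∀ a ∈ R0, ∀ b ∈ R0, a * b = b * a) ∧
        ∀ a ∈ (R : Subgroup (G ⧸ center G)), ∀ b ∈ (R : Subgroup (G ⧸ center G)),
          a ∉ R0 → b ∉ R0 → a⁻¹ * b ∈ R0 := by
    intro r hr R
    rcases sylow_central hr R with htriv | ⟨z, hz, hzR, hle⟩
    · exact ⟨⊥, fun a ha b hb => by rw [mem_bot] at ha hb; rw [ha, hb],
        fun a ha b _ ha' _ => absurd (mem_bot.2 (htriv a ha)) ha'⟩
    exact ⟨centralizer ({z} : Set (G ⧸ center G)), O.comm_cent (fun e => by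
        rw [e, orderOf_one] at hz; exact hr.one_lt.ne hz),
      fun a ha b _ ha' _ => absurd (hle ha) ha'⟩
  obtain ⟨h1, h2⟩ := exists_complement hperf
    (fun g k hk => commute_of_cC_eq hlift hk) hsyl
  exact ⟨transport hF hiso, h1, sup_center_eq_top hperf, h2⟩

/-- The two cases together. -/
theorem main {F : Type*} [Field F] [Fintype F]
    (hq : (2 ∣ Fintype.card F ∧ 2 < Fintype.card F) ∨ (¬ 2 ∣ Fintype.card F ∧ 7 ≤ Fintype.card F))
    (heven : 2 ∣ Fintype.card F → 4 ≤ Fintype.card F → Set.range (fun g : G => cI g) =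
      ({1, Fintype.card F * (Fintype.card F - 1), Fintype.card F ^ 2 - 1,
        Fintype.card F * (Fintype.card F + 1)} : Set ℕ))
    (hodd : ¬ 2 ∣ Fintype.card F → 7 ≤ Fintype.card F →
      (Fintype.card F % 4 = 1 → Set.range (fun g : G => cI g) =
        ({1, (Fintype.card F ^ 2 - 1) / 2, Fintype.card F * (Fintype.card F + 1) / 2,
          Fintype.card F * (Fintype.card F - 1), Fintype.card F * (Fintype.card F + 1)} : Set ℕ)) ∧
      (Fintype.card F % 4 = 3 → Set.range (fun g : G => cI g) =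
        ({1, (Fintype.card F ^ 2 - 1) / 2, Fintype.card F * (Fintype.card F - 1) / 2,
          Fintype.card F * (Fintype.card F + 1), Fintype.card F * (Fintype.card F - 1)} : Set ℕ))) :
    Nonempty (G ⧸ center G ≃* Matrix.ProjectiveSpecialLinearGroup (Fin 2) F) ∧
      commutator G ⊓ center G = ⊥ ∧ commutator G ⊔ center G = ⊤ ∧
      Nonempty (commutator G ≃* G ⧸ center G) := by
  obtain ⟨f, hp, hcard⟩ := FiniteField.card F (ringChar F)
  set q := Fintype.card F with hqdef
  rcases hq with ⟨h2, hlt⟩ | ⟨h2, h7⟩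
  · have hp2 : ringChar F = 2 :=
      ((Nat.prime_dvd_prime_iff_eq Nat.prime_two hp).1 (Nat.prime_two.dvd_of_dvd_pow (hcard ▸ h2))).symm
    rw [hp2] at hcard
    have hf : 2 ≤ (f : ℕ) := by
      by_contra hlt'
      have h3 : 2 ^ (f : ℕ) ≤ 2 ^ 1 := Nat.pow_le_pow_right two_pos (by omega)
      omega
    refine even_main hf hcard rfl (heven h2 ?_)
    omega
  · obtain ⟨u, w, heps, hev, hu, h1, h3⟩ := exists_sub_two (p := 2) (q := q) (by omega) h7
    refine odd_main hp f.pos hcard rfl heps hev hu ?_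
    obtain ⟨H1, H3⟩ := hodd h2 h7
    rcases heps with ⟨e1, e2⟩ | ⟨e1, e2⟩
    · rw [H1 (by omega)]
      have a1 : (q ^ 2 - 1) / 2 = 2 * u * w := by
        rw [e1, e2, show (2 * u + 1) ^ 2 = 2 * (2 * u * (u + 1)) + 1 by ring, Nat.add_sub_cancel,
          Nat.mul_div_cancel_left _ two_pos]
      have a2 : q * (q + 1) / 2 = q * w := by
        rw [show q + 1 = 2 * w by omega, mul_left_comm, Nat.mul_div_cancel_left _ two_pos]
      have a3 : q * (q - 1) = 2 * q * u := by rw [show q - 1 = 2 * u by omega]; ring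
      have a4 : q * (q + 1) = 2 * q * w := by rw [show q + 1 = 2 * w by omega]; ring
      rw [a2, a1, a3, a4]
    · rw [H3 (by omega)]
      have a1 : (q ^ 2 - 1) / 2 = 2 * u * w := by
        rw [show q = 2 * w + 1 by omega, show u = w + 1 by omega,
          show (2 * w + 1) ^ 2 = 2 * (2 * (w + 1) * w) + 1 by ring, Nat.add_sub_cancel,
          Nat.mul_div_cancel_left _ two_pos]
      have a2 : q * (q - 1) / 2 = q * w := by
        rw [show q - 1 = 2 * w by omega, mul_left_comm, Nat.mul_div_cancel_left _ two_pos]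
      have a3 : q * (q - 1) = 2 * q * w := by rw [show q - 1 = 2 * w by omega]; ring
      have a4 : q * (q + 1) = 2 * q * u := by rw [show q + 1 = 2 * u by omega]; ring
      rw [a2, a1, a3, a4]

end CfsgLib.Recog.ClassSizesPSL
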