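import Cfsg.Agent.Lib.Recog.ClassSizesPSL.Count

/-!
# Groups with the centraliser orders of `PSL(2, q)`, `q` odd: the class equation

`q = 2u + ε` and `w = u + ε`; the centralisers of the nontrivial elements have order `q`, `w`,
`2u` or `u`.
-/

set_option autoImplicit false
set_option linter.all false

namespace CfsgLib.Recog.ClassSizesPSL

open Subgroup Finset

/-- The centraliser orders of `PSL(2, q)`. -/
structure OddData (L : Type*) [Group L] (p f q w u : ℕ) : Prop where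
  hp : p.Prime
  hf : 0 < f
  hq : q = p ^ f
  card : Nat.card L = 2 * q * w * u
  eps : (q = 2 * u + 1 ∧ w = u + 1) ∨ (q + 1 = 2 * u ∧ w + 1 = u)
  even : 2 ∣ u
  hu : 4 ≤ u
  cls : ∀ x : L, x ≠ 1 → cC x = q ∨ cC x = w ∨ cC x = 2 * u ∨ cC x = u

namespace OddData

variable {L : Type*} [Group L] [Fintype L] [DecidableEq L] {p f q w u : ℕ} (O : OddData L p f q w u)

include O

omit [Fintype L] [DecidableEq L] in
theorem ne : q % 2 = 1 ∧ w % 2 = 1 ∧ q ≠ w ∧ u ≠ q ∧ u ≠ w ∧ 2 * u ≠ q ∧ 2 * u ≠ w ∧ w < q ∧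
    u < q ∧ 0 < w := by
  obtain ⟨k, hk⟩ := O.even
  have := O.hu
  rcases O.eps with ⟨h1, h2⟩ | ⟨h1, h2⟩ <;> omega

omit [Fintype L] [DecidableEq L] in
theorem two_u_of_even {g : L} (hg : g ≠ 1) (h : 2 ∣ cC g) : cC g = 2 * u ∨ cC g = u := by
  obtain ⟨hq, hw, -⟩ := O.ne
  rcases O.cls g hg with e | e | e | e
  · omega
  · omega
  · exact Or.inl e
  · exact Or.inr e

theorem sum_eq (F : L → ℕ) : ∑ g, F g = F 1 + ∑ g ∈ cSet L q, F g + ∑ g ∈ cSet L w, F g +
    ∑ g ∈ cSet L (2 * u), F g + ∑ g ∈ cSet L u, F g := by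
  obtain ⟨-, -, n1, n2, n3, n4, n5, -⟩ := O.ne
  have h1 : F 1 = ∑ g, if g = 1 then F g else 0 := by simp
  simp only [cSet, sum_filter]
  rw [h1, ← sum_add_distrib, ← sum_add_distrib, ← sum_add_distrib, ← sum_add_distrib]
  refine sum_congr rfl fun g _ => ?_
  by_cases hg : g = 1
  · simp [hg]
  have hu2 : 2 * u ≠ u := by have := O.hu; omega
  rcases O.cls g hg with e | e | e | e <;>
    simp [hg, e, n1, n1.symm, n2, n2.symm, n3, n3.symm, n4, n4.symm, n5, n5.symm, hu2, hu2.symm]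

theorem card_eq : Nat.card L = 1 + (cSet L q).card + (cSet L w).card + (cSet L (2 * u)).card +
    (cSet L u).card := by
  have := O.sum_eq fun _ => 1
  simpa [Nat.card_eq_fintype_card] using this

/-- The class equation determines the numbers of classes. -/
theorem counts : (cSet L q).card = 4 * u * w ∧ (cSet L w).card = q * u * (w - 1) ∧
    ∃ d1 d2, (cSet L (2 * u)).card = d1 * (q * w) ∧ (cSet L u).card = d2 * (2 * (q * w)) ∧
      d1 + 2 * d2 + 1 = u := by
  have hu := O.hu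
  obtain ⟨hq2, hw2, -, -, -, -, -, hwq, huq, hw0⟩ := O.ne
  have hq0 : 0 < q := by omega
  obtain ⟨a, ha⟩ := exists_card_cSet (L := L) q
  obtain ⟨e, he⟩ := exists_card_cSet (L := L) w
  obtain ⟨d1, hd1⟩ := exists_card_cSet (L := L) (2 * u)
  obtain ⟨d2, hd2⟩ := exists_card_cSet (L := L) u
  rw [O.card] at ha he hd1 hd2
  have A : (cSet L q).card = a * (2 * u * w) :=
    Nat.eq_of_mul_eq_mul_left hq0 (by rw [ha]; ring)
  have E : (cSet L w).card = e * (2 * q * u) :=
    Nat.eq_of_mul_eq_mul_left hw0 (by rw [he]; ring)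
  have D1 : (cSet L (2 * u)).card = d1 * (q * w) :=
    Nat.eq_of_mul_eq_mul_left (by omega : 0 < 2 * u) (by rw [hd1]; ring)
  have D2 : (cSet L u).card = d2 * (2 * (q * w)) :=
    Nat.eq_of_mul_eq_mul_left (by omega : 0 < u) (by rw [hd2]; ring)
  have hn := O.card_eq
  rw [O.card, A, E, D1, D2] at hn
  have hn' : (2 : ℤ) * q * w * u = 1 + a * (2 * u * w) + e * (2 * q * u) + d1 * (q * w) +
      d2 * (2 * (q * w)) := by exact_mod_cast hn
  -- bounds from congruences
  have hbd : 2 ≤ a ∧ (w : ℤ) - 1 ≤ 2 * e ∧ (u : ℤ) ≤ d1 + 2 * d2 + 1 := by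
    rcases O.eps with ⟨h1, h2⟩ | ⟨h1, h2⟩
    · have H1 : (q : ℤ) = 2 * u + 1 := by exact_mod_cast h1
      have H2 : (w : ℤ) = u + 1 := by exact_mod_cast h2
      refine ⟨?_, ?_, ?_⟩
      · have hd : (q : ℤ) ∣ (a : ℤ) - 2 := ⟨a * q - 2 * ((2 * w * u) - e * (2 * u) - d1 * w - d2 * 2 * w), by
          rw [H1, H2] at hn'; rw [H1, H2]; linear_combination 2 * hn'⟩
        by_contra hlt
        have := Int.le_of_dvd (show (0 : ℤ) < -((a : ℤ) - 2) by omega) (dvd_neg.2 hd)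
        omega
      · have hd : (w : ℤ) ∣ 2 * e + 1 := ⟨2 * q * u - 2 * u * a - e * (4 * w - 6) - d1 * q - d2 * 2 * q, by
          rw [H1, H2] at hn'; rw [H1, H2]; linear_combination -hn'⟩
        have := Int.le_of_dvd (by omega) hd
        omega
      · have hd : (u : ℤ) ∣ d1 + 2 * d2 + 1 :=
          ⟨2 * q * w - 2 * a * w - 2 * e * q - (d1 + 2 * d2) * (2 * u + 3), by
          rw [H1, H2] at hn'; rw [H1, H2]; linear_combination -hn'⟩
        exact Int.le_of_dvd (by omega) hd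
    · have H1 : (q : ℤ) = 2 * u - 1 := by omega
      have H2 : (w : ℤ) = u - 1 := by omega
      refine ⟨?_, ?_, ?_⟩
      · have hd : (q : ℤ) ∣ (a : ℤ) - 2 := ⟨a * q - 2 * ((2 * w * u) - e * (2 * u) - d1 * w - d2 * 2 * w), by
          rw [H1, H2] at hn'; rw [H1, H2]; linear_combination 2 * hn'⟩
        by_contra hlt
        have := Int.le_of_dvd (show (0 : ℤ) < -((a : ℤ) - 2) by omega) (dvd_neg.2 hd)
        omega
      · have hd : (w : ℤ) ∣ 2 * e + 1 := ⟨2 * q * u - 2 * u * a - e * (4 * w + 6) - d1 * q - d2 * 2 * q, by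
          rw [H1, H2] at hn'; rw [H1, H2]; linear_combination -hn'⟩
        have := Int.le_of_dvd (by omega) hd
        omega
      · have hd : (u : ℤ) ∣ d1 + 2 * d2 + 1 :=
          ⟨2 * q * w - 2 * a * w - 2 * e * q - (d1 + 2 * d2) * (2 * u - 3), by
          rw [H1, H2] at hn'; rw [H1, H2]; linear_combination -hn'⟩
        exact Int.le_of_dvd (by omega) hd
  obtain ⟨b1, b2, b3⟩ := hbd
  have z1 : (a : ℤ) = 2 ∧ 2 * (e : ℤ) + 1 = w ∧ (d1 : ℤ) + 2 * d2 + 1 = u := by
    have hsum : ((a : ℤ) - 2) * (2 * u * w) + (2 * e + 1 - w) * (q * u) +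
        (d1 + 2 * d2 + 1 - u) * (q * w) = 0 := by
      rcases O.eps with ⟨h1, h2⟩ | ⟨h1, h2⟩
      · have H1 : (q : ℤ) = 2 * u + 1 := by exact_mod_cast h1
        have H2 : (w : ℤ) = u + 1 := by exact_mod_cast h2
        rw [H1, H2] at hn' ⊢; linear_combination -hn'
      · have H1 : (q : ℤ) = 2 * u - 1 := by omega
        have H2 : (w : ℤ) = u - 1 := by omega
        rw [H1, H2] at hn' ⊢; linear_combination -hn'
    have p1 : 0 < (2 * u * w : ℤ) := by positivity
    have p2 : 0 < (q * u : ℤ) := by positivity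
    have p3 : 0 < (q * w : ℤ) := by positivity
    have m1 : 0 ≤ ((a : ℤ) - 2) * (2 * u * w) := mul_nonneg (by omega) p1.le
    have m2 : 0 ≤ (2 * (e : ℤ) + 1 - w) * (q * u) := mul_nonneg (by omega) p2.le
    have m3 : 0 ≤ ((d1 : ℤ) + 2 * d2 + 1 - u) * (q * w) := mul_nonneg (by omega) p3.le
    have n1 : ((a : ℤ) - 2) * (2 * u * w) = 0 := by linarith
    have n2 : (2 * (e : ℤ) + 1 - w) * (q * u) = 0 := by linarith
    have n3 : ((d1 : ℤ) + 2 * d2 + 1 - u) * (q * w) = 0 := by linarith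
    rw [mul_eq_zero, or_iff_left (by omega)] at n1 n2 n3
    omega
  obtain ⟨za, ze, zd⟩ := z1
  have za' : a = 2 := by omega
  have ze' : w - 1 = 2 * e := by omega
  refine ⟨by rw [A, za']; ring, by rw [E, ze']; ring, d1, d2, D1, D2, by omega⟩

end OddData

end CfsgLib.Recog.ClassSizesPSL
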