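import Cfsg.Agent.Lib.Recog.ClassSizesPSL.OddCount

/-!
# Groups with the centraliser orders of `PSL(2, q)`, `q` odd: the involutions

There is one class of involutions, with centraliser of order `2u`.
-/

set_option autoImplicit false
set_option linter.all false

namespace CfsgLib.Recog.ClassSizesPSL

open Subgroup Finset
open CfsgLib.Signalizer (involution_sq involution_inv involution_ne_one orderOf_eq_two_of)

namespace OddData

variable {L : Type*} [Group L] [Fintype L] [DecidableEq L] {p f q w u : ℕ} (O : OddData L p f q w u)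

include O

/-- There is an involution with centraliser of order `2u`. -/
theorem exists_central_invol : ∃ t : L, orderOf t = 2 ∧ cC t = 2 * u := by
  haveI := Fact.mk Nat.prime_two
  obtain ⟨S⟩ := (inferInstance : Nonempty (Sylow 2 L))
  have h2 : 2 ∣ Nat.card L := by rw [O.card]; exact ⟨q * w * u, by ring⟩
  have hne : (S : Subgroup L) ≠ ⊥ := fun e => by
    have h1 := S.not_dvd_index
    rw [e, index_bot] at h1
    exact h1 h2
  haveI : Nontrivial (S : Subgroup L) := (S : Subgroup L).nontrivial_iff_ne_bot.2 hne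
  haveI : Nontrivial (center (S : Subgroup L)) := S.2.center_nontrivial
  obtain ⟨k, hk⟩ := IsPGroup.iff_card.1 (S.2.to_subgroup (center (S : Subgroup L)))
  have hk0 : k ≠ 0 := fun e => by
    rw [e, pow_zero] at hk
    have := Finite.one_lt_card (α := center (S : Subgroup L))
    omega
  obtain ⟨z, hz⟩ := exists_prime_orderOf_dvd_card' (G := center (S : Subgroup L)) 2
    (by rw [hk]; exact dvd_pow_self 2 (by omega))
  have ht : orderOf (((z : (S : Subgroup L)) : L)) = 2 := by
    rw [Subgroup.orderOf_coe, Subgroup.orderOf_coe, hz]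
  refine ⟨_, ht, (O.two_u_of_even (involution_ne_one ht) ?_).resolve_right fun hu => ?_⟩
  · exact even_cC_of_comm ht rfl
  · have hle : (S : Subgroup L) ≤ centralizer ({(((z : (S : Subgroup L)) : L))} : Set L) := fun s hs =>
      mem_centralizer_singleton_iff.2
        (congrArg Subtype.val (mem_center_iff.1 z.2 ⟨s, hs⟩))
    have h1 := (centralizer ({(((z : (S : Subgroup L)) : L))} : Set L)).card_mul_index
    unfold cC at hu
    rw [hu, O.card] at h1
    have h3 : (centralizer ({(((z : (S : Subgroup L)) : L))} : Set L)).index = 2 * q * w :=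
      Nat.eq_of_mul_eq_mul_left (by have := O.hu; omega : 0 < u) (by rw [h1]; ring)
    refine S.not_dvd_index (dvd_trans ?_ (index_dvd_of_le hle))
    rw [h3]; exact ⟨q * w, by ring⟩

theorem card_class_ge {S : Finset L} (hinv : ∀ (g : L), ∀ x ∈ S, g * x * g⁻¹ ∈ S) {x : L}
    (hx : x ∈ S) (hxo : orderOf x = 2) : q * w ≤ S.card := by
  classical
  have h1 : ∀ y ∈ univ.image (fun g => g * x * g⁻¹), y ∈ S := by
    intro y hy
    obtain ⟨g, -, rfl⟩ := mem_image.1 hy
    exact hinv g x hx
  obtain ⟨m, hm⟩ := exists_card_mul_eq (c := cC x) (univ.image fun g => g * x * g⁻¹)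
    (fun g y hy => by
      obtain ⟨a, -, rfl⟩ := mem_image.1 hy
      exact mem_image.2 ⟨g * a, mem_univ _, by group⟩)
    (fun y hy => by
      obtain ⟨a, -, rfl⟩ := mem_image.1 hy
      exact cC_conj a x)
  have hm1 : 1 ≤ m := by
    rcases Nat.eq_zero_or_pos m with rfl | h
    · have h0 : 0 < (univ.image fun g => g * x * g⁻¹).card :=
        Finset.card_pos.2 ⟨x, mem_image.2 ⟨1, mem_univ _, by group⟩⟩
      rw [zero_mul, mul_eq_zero] at hm
      have : 0 < cC x := Nat.card_pos
      omega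
    · exact h
  have hc : cC x ≤ 2 * u := by
    rcases O.two_u_of_even (involution_ne_one hxo) (even_cC_of_comm hxo rfl) with e | e <;> omega
  have h2 : Nat.card L ≤ 2 * u * S.card := by
    calc Nat.card L ≤ m * Nat.card L := Nat.le_mul_of_pos_left _ hm1
      _ = cC x * (univ.image fun g => g * x * g⁻¹).card := hm.symm
      _ ≤ 2 * u * S.card := Nat.mul_le_mul hc (Finset.card_le_card h1)
  rw [O.card] at h2
  by_contra hlt
  push Not at hlt
  have := O.hu
  nlinarith

/-- All involutions are conjugate. -/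
theorem isConj_invol {a b : L} (ha : orderOf a = 2) (hb : orderOf b = 2) : IsConj a b := by
  classical
  by_contra hnc
  set T1 := (invol L).filter fun x => IsConj a x with hT1
  set T2 := (invol L).filter fun x => ¬ IsConj a x with hT2
  have c1 : q * w ≤ T1.card := O.card_class_ge (x := a) (fun g x hx => by
    rw [hT1, mem_filter] at hx ⊢
    exact ⟨conj_mem_invol g hx.1, hx.2.trans (isConj_iff.2 ⟨g, rfl⟩)⟩)
    (by rw [hT1, mem_filter, mem_invol]; exact ⟨ha, IsConj.refl a⟩) ha
  have c2 : q * w ≤ T2.card := O.card_class_ge (x := b) (fun g x hx => by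
    rw [hT2, mem_filter] at hx ⊢
    exact ⟨conj_mem_invol g hx.1, fun h => hx.2 (h.trans (isConj_iff.2 ⟨g⁻¹, by group⟩))⟩)
    (by rw [hT2, mem_filter, mem_invol]; exact ⟨hb, hnc⟩) hb
  set Pairs := T1 ×ˢ T2 ∪ T2 ×ˢ T1 with hP
  have hdisj : Disjoint (T1 ×ˢ T2) (T2 ×ˢ T1) := by
    rw [Finset.disjoint_left]
    rintro ⟨x, y⟩ h1 h2
    simp only [mem_product, hT1, hT2, mem_filter] at h1 h2
    exact h2.1.2 h1.1.2
  have hcard : Pairs.card = 2 * (T1.card * T2.card) := by
    rw [hP, card_union_of_disjoint hdisj, card_product, card_product]; ring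
  have hle : Pairs.card ≤ ((cSet L (2 * u) ∪ cSet L u).sigma inverters).card := by
    refine card_le_card_of_injOn (fun z => (⟨z.1 * z.2, z.1⟩ : Σ _ : L, L)) ?_ ?_
    · rintro ⟨x, y⟩ h
      simp only [hP, coe_union, Set.mem_union, mem_coe, mem_product, hT1, hT2, mem_filter,
        mem_invol] at h
      obtain ⟨hx, hy, hxy⟩ : orderOf x = 2 ∧ orderOf y = 2 ∧ ¬ IsConj x y := by
        rcases h with ⟨⟨h1, h2⟩, h3, h4⟩ | ⟨⟨h1, h2⟩, h3, h4⟩
        · exact ⟨h1, h3, fun h => h4 (h2.trans h)⟩
        · exact ⟨h1, h3, fun h => h2 (h4.trans h.symm)⟩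
      have hne : x * y ≠ 1 := fun e => hxy (by
        rw [mul_eq_one_iff_eq_inv, involution_inv hy] at e; rw [e])
      obtain ⟨z, hz, hzx, hzy⟩ :
          ∃ z : L, orderOf z = 2 ∧ z * x = x * z ∧ z * y = y * z := by
        obtain ⟨z, hz⟩ := CfsgLib.Signalizer.exists_central_involution_of_not_conj hx hy hxy
        exact ⟨z, hz.1, hz.2.1, hz.2.2⟩
      have he : 2 ∣ cC (x * y) := even_cC_of_comm hz (by
        rw [← mul_assoc, hzx, mul_assoc, hzy, mul_assoc])
      simp only [coe_sigma, Set.mem_sigma_iff, mem_coe, mem_union, mem_cSet, mem_inverters]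
      refine ⟨(O.two_u_of_even hne he).imp (fun e => ⟨hne, e⟩) (fun e => ⟨hne, e⟩), hx, ?_⟩
      rw [← mul_assoc, involution_sq hx, one_mul]; exact hy
    · rintro ⟨x, y⟩ - ⟨x', y'⟩ - h
      simp only [Sigma.mk.injEq, heq_eq_eq] at h
      obtain ⟨h1, rfl⟩ := h
      rw [mul_left_cancel h1]
  have hd12 : Disjoint (cSet L (2 * u)) (cSet L u) := by
    rw [Finset.disjoint_left]
    intro x h1 h2
    rw [mem_cSet] at h1 h2
    have := O.hu; omega
  rw [card_sigma, sum_union hd12] at hle
  have b1 : ∑ g ∈ cSet L (2 * u), (inverters g).card ≤ (cSet L (2 * u)).card * (2 * u) :=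
    sum_le_card_nsmul _ _ _ fun g hg => (card_inverters_le g).trans (le_of_eq (mem_cSet.1 hg).2)
  have b2 : ∑ g ∈ cSet L u, (inverters g).card ≤ (cSet L u).card * u :=
    sum_le_card_nsmul _ _ _ fun g hg => (card_inverters_le g).trans (le_of_eq (mem_cSet.1 hg).2)
  obtain ⟨-, -, d1, d2, D1, D2, hd⟩ := O.counts
  rw [D1] at b1; rw [D2] at b2
  have h3 : 2 * (q * w * (q * w)) ≤ 2 * (T1.card * T2.card) :=
    Nat.mul_le_mul_left 2 (Nat.mul_le_mul c1 c2)
  have h4 : 2 * (q * w * (q * w)) ≤ (d1 + d2) * (2 * u) * (q * w) := by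
    rw [hcard] at hle; nlinarith
  have hpos : 0 < q * w := by
    obtain ⟨hq2, -, -, -, -, -, -, -, -, hw⟩ := O.ne
    exact Nat.mul_pos (by omega) hw
  have h5 : 2 * (q * w) ≤ (d1 + d2) * (2 * u) := Nat.le_of_mul_le_mul_right (by linarith) hpos
  have hu := O.hu
  rcases O.eps with ⟨h1, h2⟩ | ⟨h1, h2⟩
  · subst h1 h2; nlinarith
  · obtain rfl : u = w + 1 := h2.symm
    obtain rfl : q = 2 * w + 1 := by omega
    nlinarith

theorem cC_invol {t : L} (ht : orderOf t = 2) : cC t = 2 * u := by
  obtain ⟨t0, h0, hc⟩ := O.exists_central_invol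
  obtain ⟨g, hg⟩ := isConj_iff.1 (O.isConj_invol h0 ht)
  rw [← hg, cC_conj, hc]

theorem card_invol : (invol L).card = q * w := by
  classical
  obtain ⟨t0, h0, hc⟩ := O.exists_central_invol
  obtain ⟨m, hm⟩ := exists_card_mul_eq (c := 2 * u) (invol L) (fun g x h => conj_mem_invol g h)
    fun x hx => O.cC_invol (mem_invol.1 hx)
  have hm' : (invol L).card = m * (q * w) :=
    Nat.eq_of_mul_eq_mul_left (by have := O.hu; omega : 0 < 2 * u)
      (by rw [hm, O.card]; ring)
  -- a single class
  have h1 : (invol L) = univ.image fun g => g * t0 * g⁻¹ := by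
    ext x
    simp only [mem_invol, mem_image, mem_univ, true_and]
    exact ⟨fun h => isConj_iff.1 (O.isConj_invol h0 h),
      fun ⟨g, hg⟩ => hg ▸ (CfsgLib.Signalizer.orderOf_conj g t0).trans h0⟩
  have h2 : (invol L).card = (centralizer ({t0} : Set L)).index := by
    rw [h1, ← CfsgLib.Orders.card_carrier_eq_index, Nat.card_coe_set_eq, ← Set.ncard_coe_finset]
    congr 1
    ext x
    simp only [coe_image, coe_univ, Set.image_univ, Set.mem_range, ConjClasses.mem_carrier_iff_mk_eq,
      ConjClasses.mk_eq_mk_iff_isConj]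
    exact ⟨fun ⟨g, hg⟩ => (isConj_iff.2 ⟨g, hg⟩).symm, fun h => isConj_iff.1 h.symm⟩
  have h3 := (centralizer ({t0} : Set L)).card_mul_index
  unfold cC at hc
  rw [hc, O.card, ← h2] at h3
  exact Nat.eq_of_mul_eq_mul_left (by have := O.hu; omega : 0 < 2 * u) (by rw [h3]; ring)

end OddData

end CfsgLib.Recog.ClassSizesPSL
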