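import Cfsg.Agent.Lib.Recog.ClassSizesPSL.OddInvol
import Mathlib.GroupTheory.FixedPointFree

/-!
# Groups with the centraliser orders of `PSL(2, q)`, `q` odd: the tight count
-/

set_option autoImplicit false
set_option linter.all false

namespace CfsgLib.Recog.ClassSizesPSL

open Subgroup Finset
open CfsgLib.Signalizer (involution_sq involution_inv involution_ne_one orderOf_eq_two_of)

theorem tight_arith {E i u d2 K m Sq ST Sw Su : ℕ} (hu : 2 ≤ u) (hE : 0 < E)
    (hid : E = u + 1 + K + m + u * (u - 2)) (hsum : E + Sq + Sw + ST + Su = E * E)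
    (hq : Sq ≤ K * E) (hw : Sw ≤ m * E) (ht : ST + E ≤ E * i) (hU : Su ≤ 2 * u * d2 * E)
    (hi : i ≤ u + 1) (hd : 2 * d2 + 2 ≤ u) :
    2 * d2 + 2 = u ∧ i = u + 1 ∧ Sw = m * E ∧ Su = 2 * u * d2 * E := by
  have h1 : E * E ≤ E * (K + m + i + 2 * u * d2) := by
    rw [Nat.mul_add, Nat.mul_add, Nat.mul_add]
    linarith [Nat.mul_comm K E, Nat.mul_comm m E, Nat.mul_comm (2 * u * d2) E]
  have h2 := Nat.le_of_mul_le_mul_left h1 hE
  have h3 : 2 * u * d2 ≤ u * (u - 2) := by
    rw [show 2 * u * d2 = u * (2 * d2) by ring]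
    exact Nat.mul_le_mul_left u (by omega)
  have h4 : i = u + 1 := by linarith
  have h5 : 2 * u * d2 = u * (u - 2) := by linarith
  have h6 : 2 * d2 = u - 2 := Nat.eq_of_mul_eq_mul_left (by omega : 0 < u) (by rw [← h5]; ring)
  refine ⟨by omega, h4, ?_⟩
  rw [← h5] at hid
  have h7 : E * E = E * (u + 1) + K * E + m * E + 2 * u * d2 * E := by
    conv_lhs => arg 2; rw [hid]
    ring
  rw [h4] at ht
  constructor <;> linarith

namespace OddData

variable {L : Type*} [Group L] [Fintype L] [DecidableEq L] {p f q w u : ℕ} (O : OddData L p f q w u)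

include O

omit [Fintype L] [DecidableEq L] in
theorem p_ne_two : p ≠ 2 := by
  intro e
  obtain ⟨hq, -⟩ := O.ne
  rw [O.hq, e] at hq
  obtain ⟨k, hk⟩ := Nat.exists_eq_succ_of_ne_zero O.hf.ne'
  rw [hk, Nat.succ_eq_add_one, pow_succ] at hq
  omega

omit [Fintype L] [DecidableEq L] in
theorem q_coprime : ¬ p ∣ 2 * w * u := by
  intro h
  have hq0 : 0 < f := O.hf
  have hpq : p ∣ q := by rw [O.hq]; exact dvd_pow_self p hq0.ne'
  have hp2 : ¬ p ∣ 2 := fun e => O.p_ne_two ((Nat.prime_dvd_prime_iff_eq O.hp Nat.prime_two).1 e)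
  rcases O.eps with ⟨h1, h2⟩ | ⟨h1, h2⟩
  · rcases O.hp.dvd_mul.1 h with h' | h'
    · rcases O.hp.dvd_mul.1 h' with h'' | h''
      · exact hp2 h''
      · have : p ∣ 1 := by
          have h3 : p ∣ 2 * w := h''.mul_left 2
          rw [show 2 * w = q + 1 by omega] at h3
          exact (Nat.dvd_add_right hpq).1 h3
        exact O.hp.not_dvd_one this
    · have : p ∣ 1 := by
        rw [h1] at hpq
        exact (Nat.dvd_add_right (h'.mul_left 2)).1 hpq
      exact O.hp.not_dvd_one this
  · rcases O.hp.dvd_mul.1 h with h' | h'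
    · rcases O.hp.dvd_mul.1 h' with h'' | h''
      · exact hp2 h''
      · have : p ∣ 1 := by
          rw [show q = 2 * w + 1 by omega] at hpq
          exact (Nat.dvd_add_right (h''.mul_left 2)).1 hpq
        exact O.hp.not_dvd_one this
    · have : p ∣ 1 := by
        have h3 : p ∣ q + 1 := h1 ▸ h'.mul_left 2
        exact (Nat.dvd_add_right hpq).1 h3
      exact O.hp.not_dvd_one this

theorem exists_sylow_eq {g : L} (hg : g ∈ cSet L q) :
    ∃ P : Sylow p L, (P : Subgroup L) = centralizer ({g} : Set L) := by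
  haveI := Fact.mk O.hp
  have hcard : Nat.card (centralizer ({g} : Set L) : Subgroup L) = p ^ f :=
    (mem_cSet.1 hg).2.trans O.hq
  refine ⟨(IsPGroup.of_card hcard).toSylow ?_, rfl⟩
  intro hd
  have h1 := (centralizer ({g} : Set L)).card_mul_index
  rw [hcard, O.card, ← O.hq] at h1
  have hpos : 0 < q := by rw [O.hq]; exact pow_pos O.hp.pos f
  rw [Nat.eq_of_mul_eq_mul_left hpos (h1.trans (by ring : _ = q * (2 * w * u)))] at hd
  exact O.q_coprime hd

theorem sylow_card (P : Sylow p L) : Nat.card (P : Subgroup L) = q := by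
  haveI := Fact.mk O.hp
  have hn : Nat.card L = p ^ f * (2 * w * u) := by rw [O.card, O.hq]; ring
  rw [P.card_eq_multiplicity, hn, Nat.factorization_mul (pow_ne_zero _ O.hp.ne_zero) ?_,
    Finsupp.add_apply, Nat.factorization_pow_self O.hp,
    Nat.factorization_eq_zero_of_not_dvd O.q_coprime, add_zero, O.hq]
  intro e
  exact O.q_coprime (e ▸ dvd_zero p)

theorem not_inverted_of_minus (heps : q + 1 = 2 * u) {g : L} (hg : g ∈ cSet L q) :
    inverters g = ∅ := by
  classical
  haveI := Fact.mk O.hp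
  obtain ⟨hq2, hw2, -, n2, -, n4, -, hwq, huq, hw0⟩ := O.ne
  rw [Finset.eq_empty_iff_forall_notMem]
  intro a ha
  obtain ⟨P, hP⟩ := O.exists_sylow_eq hg
  have hinv := conj_eq_inv_of_mem_inverters ha
  have hao := (mem_inverters.1 ha).1
  have hconj : ∀ x ∈ centralizer ({g} : Set L), a * x * a⁻¹ ∈ centralizer ({g} : Set L) := by
    intro x hx
    rw [mem_centralizer_singleton_iff] at hx ⊢
    have h1 : a * g⁻¹ * a⁻¹ = g := by
      rw [show a * g⁻¹ * a⁻¹ = (a * g * a⁻¹)⁻¹ by group, hinv, inv_inv]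
    calc a * x * a⁻¹ * g = a * x * a⁻¹ * (a * g⁻¹ * a⁻¹) := by rw [h1]
      _ = a * (x * g⁻¹) * a⁻¹ := by group
      _ = a * (g⁻¹ * x) * a⁻¹ := by rw [(show Commute x g from hx).inv_right.eq]
      _ = a * g⁻¹ * a⁻¹ * (a * x * a⁻¹) := by group
      _ = g * (a * x * a⁻¹) := by rw [h1]
  let φ : centralizer ({g} : Set L) →* centralizer ({g} : Set L) :=
    MonoidHom.mk' (fun x => ⟨a * x * a⁻¹, hconj x x.2⟩) fun x y => Subtype.ext (by
      show a * ((x : L) * y) * a⁻¹ = a * x * a⁻¹ * (a * y * a⁻¹)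
      group)
  have hfp : MonoidHom.FixedPointFree φ := by
    intro x hx
    by_contra hx1
    have hx1' : (x : L) ≠ 1 := fun e => hx1 (Subtype.ext e)
    have hxa : (x : L) ∈ centralizer ({a} : Set L) := by
      have e : a * (x : L) * a⁻¹ = x := congrArg Subtype.val hx
      exact mem_centralizer_singleton_iff.2 (mul_inv_eq_iff_eq_mul.1 e).symm
    have d1 : orderOf (x : L) ∣ 2 * u := O.cC_invol hao ▸ Subgroup.orderOf_dvd_natCard _ hxa
    have d2 : orderOf (x : L) ∣ q := (mem_cSet.1 hg).2 ▸ Subgroup.orderOf_dvd_natCard _ x.2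
    rw [← heps] at d1
    have d3 := (Nat.dvd_add_right d2).1 d1
    exact hx1' (orderOf_eq_one_iff.1 (Nat.dvd_one.1 d3))
  have hinv2 : Function.Involutive φ := fun x => Subtype.ext (by
    show a * (a * (x : L) * a⁻¹) * a⁻¹ = x
    calc a * (a * (x : L) * a⁻¹) * a⁻¹ = a * a * (x : L) * (a * a)⁻¹ := by group
      _ = x := by rw [involution_sq hao]; group)
  -- every Sylow subgroup is the centraliser of each of its nontrivial elements
  have hcent : ∀ R : Sylow p L, ∀ x ∈ (R : Subgroup L), x ≠ 1 →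
      centralizer ({x} : Set L) = (R : Subgroup L) ∧ x ∈ cSet L q := by
    intro R x hx hx1
    obtain ⟨c, hc⟩ := MulAction.exists_smul_eq L P R
    have hab : ∀ y ∈ (R : Subgroup L), x * y = y * x := by
      intro y hy
      rw [← hc, Sylow.coe_subgroup_smul, mem_pointwise_smul_iff_inv_smul_mem, hP] at hx hy
      have := congrArg Subtype.val (hfp.commute_all_of_involutive hinv2 ⟨_, hx⟩ ⟨_, hy⟩).eq
      simp only [Subgroup.coe_mul, MulAut.smul_def, MulAut.conj_inv_apply] at this
      calc x * y = c * (c⁻¹ * x * c * (c⁻¹ * y * c)) * c⁻¹ := by group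
        _ = c * (c⁻¹ * y * c * (c⁻¹ * x * c)) * c⁻¹ := by rw [this]
        _ = y * x := by group
    have hle : (R : Subgroup L) ≤ centralizer ({x} : Set L) := fun y hy =>
      mem_centralizer_singleton_iff.2 (hab y hy).symm
    have hd : q ∣ cC x := by rw [← O.sylow_card R]; exact card_dvd_of_le hle
    have hq1 : cC x = q := by
      rcases O.cls x hx1 with e | e | e | e
      · exact e
      all_goals
        exfalso
        rw [e] at hd
      · exact absurd (Nat.le_of_dvd hw0 hd) (by omega)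
      · rw [← heps] at hd
        have := Nat.le_of_dvd one_pos ((Nat.dvd_add_right (dvd_refl q)).1 hd)
        have := O.hu
        omega
      · exact absurd (Nat.le_of_dvd (by have := O.hu; omega) hd) (by omega)
    exact ⟨(eq_of_le_of_card_ge hle (le_of_eq (hq1.trans (O.sylow_card R).symm))).symm,
      mem_cSet.2 ⟨hx1, hq1⟩⟩
  have : Fintype (Sylow p L) := Fintype.ofFinite _
  have hsum : (cSet L q).card =
      ((univ : Finset (Sylow p L)).sigma fun R => univ.filter fun x => x ∈ (R : Subgroup L) ∧ x ≠ 1).card := by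
    symm
    refine card_bij (fun z _ => z.2) ?_ ?_ ?_
    · rintro ⟨R, x⟩ hz
      simp only [mem_sigma, mem_univ, true_and, mem_filter] at hz
      exact (hcent R x hz.1 hz.2).2
    · rintro ⟨R, x⟩ hz ⟨R', x'⟩ hz' e
      simp only [mem_sigma, mem_univ, true_and, mem_filter] at hz hz'
      obtain rfl : x = x' := e
      obtain rfl : R = R' := Sylow.ext
        ((hcent R x hz.1 hz.2).1.symm.trans (hcent R' x hz'.1 hz'.2).1)
      rfl
    · intro x hx
      obtain ⟨R, hR⟩ := O.exists_sylow_eq hx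
      refine ⟨⟨R, x⟩, ?_, rfl⟩
      simp only [mem_sigma, mem_univ, true_and, mem_filter]
      exact ⟨by rw [hR]; exact mem_centralizer_singleton_iff.2 rfl, (mem_cSet.1 hx).1⟩
  rw [card_sigma, O.counts.1] at hsum
  have hfib : ∀ R : Sylow p L,
      ((univ : Finset L).filter fun x => x ∈ (R : Subgroup L) ∧ x ≠ 1).card = q - 1 := by
    intro R
    have e : ((univ : Finset L).filter fun x => x ∈ (R : Subgroup L) ∧ x ≠ 1) =
        ((univ : Finset L).filter fun x => x ∈ (R : Subgroup L)).erase 1 := by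
      ext x; simp [and_comm]
    rw [e, card_erase_of_mem (by simp), ← Fintype.card_subtype, ← Nat.card_eq_fintype_card,
      O.sylow_card R]
  rw [sum_congr rfl fun R _ => hfib R, sum_const, smul_eq_mul, card_univ,
    ← Nat.card_eq_fintype_card] at hsum
  obtain rfl : u = w + 1 := by rcases O.eps with ⟨h1, h2⟩ | ⟨h1, h2⟩ <;> omega
  have hqw : q - 1 = 2 * w := by omega
  have hN : Nat.card (Sylow p L) = 2 * (w + 1) := by
    rw [hqw] at hsum
    exact Nat.eq_of_mul_eq_mul_right (by omega : 0 < 2 * w) (hsum.symm.trans (by ring))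
  have hidx := (normalizer ((P : Subgroup L) : Set L)).card_mul_index
  have hPi : Nat.card (Sylow p L) = (normalizer ((P : Subgroup L) : Set L)).index :=
    P.card_eq_index_normalizer
  rw [← hPi, hN, O.card] at hidx
  have hNP : Nat.card (normalizer ((P : Subgroup L) : Set L)) = q * w :=
    Nat.eq_of_mul_eq_mul_right (by omega : 0 < 2 * (w + 1)) (hidx.trans (by ring))
  have haN : a ∈ normalizer ((P : Subgroup L) : Set L) := by
    rw [mem_normalizer_iff, hP]
    intro x
    refine ⟨hconj x, fun h => ?_⟩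
    have := hconj _ h
    rwa [show a * (a * x * a⁻¹) * a⁻¹ = a * a * x * (a * a)⁻¹ by group, involution_sq hao,
      one_mul, inv_one, mul_one] at this
  have h2 := Subgroup.orderOf_dvd_natCard _ haN
  rw [hao, hNP, Nat.prime_two.dvd_mul] at h2
  omega

/-- The number of involutions centralised by an involution is `u + 1`; the other counts are
extremal. -/
theorem tight : (∀ t : L, orderOf t = 2 → (centInvol t).card = u + 1) ∧
    cSet L (2 * u) = invol L ∧ (∀ g ∈ cSet L u, (centInvol g).card = 1) ∧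
    (∀ g ∈ cSet L w, (inverters g).card = w) ∧ (∀ g ∈ cSet L u, (inverters g).card = u) := by
  classical
  obtain ⟨hq2, hw2, -, n2, n3, n4, n5, hwq, huq, hw0⟩ := O.ne
  have hu := O.hu
  obtain ⟨cq, cw, d1, d2, D1, D2, hd⟩ := O.counts
  obtain ⟨t0, h0, -⟩ := O.exists_central_invol
  set i := (centInvol t0).card with hi
  have hti : ∀ t : L, orderOf t = 2 → (centInvol t).card = i := by
    intro t ht
    obtain ⟨g, hg⟩ := isConj_iff.1 (O.isConj_invol h0 ht)
    rw [← hg, card_centInvol_conj, hi]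
  have hTsub : invol L ⊆ cSet L (2 * u) := fun t ht =>
    mem_cSet.2 ⟨involution_ne_one (mem_invol.1 ht), O.cC_invol (mem_invol.1 ht)⟩
  set R := cSet L (2 * u) \ invol L with hR
  have hRc : R.card + q * w = d1 * (q * w) := by
    rw [← O.card_invol, hR, card_sdiff_add_card_eq_card hTsub, D1]
    rw [O.card_invol]
  have hdisj : Disjoint (cSet L (2 * u)) (cSet L u) := by
    rw [Finset.disjoint_left]
    intro x h1 h2
    rw [mem_cSet] at h1 h2
    omega
  -- commuting pairs
  have hfilt : ∀ a ∈ invol L,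
      ((cSet L (2 * u) ∪ cSet L u).filter fun g => a * g = g * a).card = 2 * u - 1 := by
    intro a ha
    rw [mem_invol] at ha
    have e : ((cSet L (2 * u) ∪ cSet L u).filter fun g => a * g = g * a) =
        ((univ : Finset L).filter fun g => g ∈ centralizer ({a} : Set L)).erase 1 := by
      ext g
      simp only [mem_filter, mem_union, mem_cSet, mem_erase, mem_univ, true_and,
        mem_centralizer_singleton_iff]
      constructor
      · rintro ⟨h1, h2⟩
        exact ⟨h1.elim (·.1) (·.1), h2.symm⟩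
      · rintro ⟨h1, h2⟩
        exact ⟨(O.two_u_of_even h1 (even_cC_of_comm ha h2.symm)).imp (⟨h1, ·⟩) (⟨h1, ·⟩), h2.symm⟩
    rw [e, card_erase_of_mem (by simp [Subgroup.one_mem]), ← Fintype.card_subtype,
      ← Nat.card_eq_fintype_card]
    exact congrArg (· - 1) (O.cC_invol ha)
  have hS1 : ∑ g ∈ cSet L (2 * u) ∪ cSet L u, (centInvol g).card = q * w * (2 * u - 1) := by
    rw [sum_centInvol, sum_congr rfl hfilt, sum_const, O.card_invol, smul_eq_mul]
  rw [sum_union hdisj, ← sum_sdiff hTsub,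
    sum_congr rfl fun t ht => hti t (mem_invol.1 ht), sum_const, O.card_invol, smul_eq_mul] at hS1
  have hR1 : R.card ≤ ∑ g ∈ R, (centInvol g).card := by
    rw [card_eq_sum_ones]
    refine sum_le_sum fun g hg => Finset.card_pos.2 (exists_invol_of_even ?_)
    rw [(mem_cSet.1 (mem_sdiff.1 hg).1).2]; exact dvd_mul_right 2 u
  have hU1 : (cSet L u).card ≤ ∑ g ∈ cSet L u, (centInvol g).card := by
    rw [card_eq_sum_ones]
    refine sum_le_sum fun g hg => Finset.card_pos.2 (exists_invol_of_even ?_)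
    rw [(mem_cSet.1 hg).2]; exact O.even
  have hpos : 0 < q * w := Nat.mul_pos (by omega) hw0
  have hile : i ≤ u + 1 := by
    have h1 : q * w * i + q * w * (u - 2) ≤ q * w * (2 * u - 1) := by
      have e1 : q * w * (u - 2) + q * w = d1 * (q * w) + d2 * (2 * (q * w)) := by
        rw [← hd]; obtain ⟨k, hk⟩ : ∃ k, d1 + 2 * d2 = k + 1 := ⟨u - 2, by omega⟩
        rw [show d1 + 2 * d2 + 1 - 2 = k by omega,
          show d1 * (q * w) + d2 * (2 * (q * w)) = (d1 + 2 * d2) * (q * w) by ring, hk]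
        ring
      rw [← hR] at hS1
      linarith
    rw [← mul_add] at h1
    have := Nat.le_of_mul_le_mul_left h1 hpos
    omega
  -- pairs of involutions
  have hT2 := sum_inverters (L := L)
  rw [O.sum_eq, inverters_one, O.card_invol, ← sum_sdiff hTsub, ← hR] at hT2
  have hR0 : ∀ g ∈ R, inverters g = ∅ := by
    intro g hg
    obtain ⟨hg1, hg2⟩ := mem_sdiff.1 hg
    obtain ⟨hne, hc⟩ := mem_cSet.1 hg1
    rw [Finset.eq_empty_iff_forall_notMem]
    intro a ha
    have h := two_mul_cC_dvd ha (fun e => hg2 (mem_invol.2 (orderOf_eq_two_of hne e)))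
    rw [hc, O.card] at h
    have h' : 2 * u * 2 ∣ 2 * u * (q * w) := by
      rw [show 2 * u * 2 = 2 * (2 * u) by ring, show 2 * u * (q * w) = 2 * q * w * u by ring]
      exact h
    have h'' := Nat.dvd_of_mul_dvd_mul_left (by omega : 0 < 2 * u) h'
    rw [Nat.prime_two.dvd_mul] at h''
    omega
  rw [sum_eq_zero (s := R) (fun g hg => by rw [hR0 g hg, Finset.card_empty]), zero_add] at hT2
  have hTb : ∑ g ∈ invol L, (inverters g).card + q * w ≤ q * w * i := by
    have : ∑ g ∈ invol L, ((inverters g).card + 1) ≤ ∑ g ∈ invol L, i :=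
      sum_le_sum fun g hg => hti g (mem_invol.1 hg) ▸ card_inverters_invol_lt (mem_invol.1 hg)
    rwa [sum_add_distrib, ← card_eq_sum_ones, sum_const, smul_eq_mul, O.card_invol] at this
  have hwle : ∀ g ∈ cSet L w, (inverters g).card ≤ w := fun g hg =>
    (card_inverters_le g).trans (le_of_eq (mem_cSet.1 hg).2)
  have hule : ∀ g ∈ cSet L u, (inverters g).card ≤ u := fun g hg =>
    (card_inverters_le g).trans (le_of_eq (mem_cSet.1 hg).2)
  have hWb := sum_le_card_nsmul _ _ _ hwle
  have hUb := sum_le_card_nsmul _ _ _ hule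
  rw [smul_eq_mul, cw] at hWb
  rw [smul_eq_mul, D2] at hUb
  have hd1 : 1 ≤ d1 := by
    rcases Nat.eq_zero_or_pos d1 with rfl | h
    · omega
    · exact h
  -- the bound for the `p`-elements
  obtain ⟨K, hid, hQb⟩ : ∃ K, q * w = u + 1 + K + u * (w - 1) + u * (u - 2) ∧
      ∑ g ∈ cSet L q, (inverters g).card ≤ K * (q * w) := by
    obtain ⟨k, hk⟩ : ∃ k, u = k + 2 := ⟨u - 2, by omega⟩
    rcases O.eps with ⟨e1, e2⟩ | ⟨e1, e2⟩
    · refine ⟨4 * u, ?_, ?_⟩
      · rw [e1, e2, hk, Nat.add_sub_cancel, Nat.add_sub_cancel]; ring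
      · have := sum_le_card_nsmul (cSet L q) (fun g => (inverters g).card) q fun g hg =>
          (card_inverters_le g).trans (le_of_eq (mem_cSet.1 hg).2)
        rw [smul_eq_mul, cq] at this
        refine this.trans (le_of_eq ?_)
        ring
    · refine ⟨0, ?_, ?_⟩
      · rw [show q = 2 * k + 3 by omega, show w = k + 1 by omega, hk, Nat.add_sub_cancel,
          Nat.add_sub_cancel]
        ring
      · rw [sum_eq_zero fun g hg => by rw [O.not_inverted_of_minus e1 hg, Finset.card_empty]]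
        simp
  have main := tight_arith (by omega) hpos hid hT2 hQb
    (hWb.trans (le_of_eq (by ring : q * u * (w - 1) * w = u * (w - 1) * (q * w)))) hTb
    (hUb.trans (le_of_eq (by ring : d2 * (2 * (q * w)) * u = 2 * u * d2 * (q * w)))) hile
    (show 2 * d2 + 2 ≤ u by omega)
  replace main : 2 * d2 + 2 = u ∧ i = u + 1 ∧
      ∑ g ∈ cSet L w, (inverters g).card = q * u * (w - 1) * w ∧
      ∑ g ∈ cSet L u, (inverters g).card = d2 * (2 * (q * w)) * u :=
    ⟨main.1, main.2.1, main.2.2.1.trans (by ring), main.2.2.2.trans (by ring)⟩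
  obtain ⟨hd2, hi', hW, hU⟩ := main
  obtain rfl : d1 = 1 := by omega
  have hR' : R = ∅ := Finset.card_eq_zero.1 (by omega)
  refine ⟨fun t ht => (hti t ht).trans hi', (Finset.Subset.antisymm hTsub ?_).symm, ?_, ?_, ?_⟩
  · intro g hg
    by_contra h
    have : g ∈ R := mem_sdiff.2 ⟨hg, h⟩
    rw [hR'] at this
    exact absurd this (Finset.notMem_empty g)
  · have hone : ∀ g ∈ cSet L u, 1 ≤ (centInvol g).card := fun g hg =>
      Finset.card_pos.2 (exists_invol_of_even (by rw [(mem_cSet.1 hg).2]; exact O.even))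
    have hsum : ∑ g ∈ cSet L u, 1 = ∑ g ∈ cSet L u, (centInvol g).card := by
      refine le_antisymm (sum_le_sum hone) ?_
      rw [← card_eq_sum_ones, D2]
      rw [← hR, hR', sum_empty, hi'] at hS1
      obtain ⟨k, rfl⟩ : ∃ k, u = k + 2 := ⟨u - 2, by omega⟩
      rw [show 2 * (k + 2) - 1 = 2 * k + 3 by omega] at hS1
      obtain rfl : k = 2 * d2 := by omega
      nlinarith
    exact fun g hg => ((sum_eq_sum_iff_of_le hone).1 hsum g hg).symm
  · refine fun g hg => (sum_eq_sum_iff_of_le hwle).1 ?_ g hg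
    rw [sum_const, smul_eq_mul, hW, cw]
  · refine fun g hg => (sum_eq_sum_iff_of_le hule).1 ?_ g hg
    rw [sum_const, smul_eq_mul, hU, D2]

end OddData

end CfsgLib.Recog.ClassSizesPSL
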