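import Cfsg.Agent.Lib.Recog.ClassSizesPSL.Basic

/-!
# The central quotient of a group with three incomparable class sizes

`Sizes G p f A E' D D'`: the class sizes are `1`, `A`, `E = p ^ f * E'`, `D` and `D'`, with `A`
and `E` isolated and `D` only below `D'`.
-/

set_option autoImplicit false
set_option linter.all false

namespace CfsgLib.Recog.ClassSizesPSL

open Subgroup

variable {G : Type*} [Group G] [Finite G]

/-- Class sizes like those of `PSL(2, q)`, with `q = p ^ f`. -/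
structure Sizes (G : Type*) [Group G] (p f A E' D D' : ℕ) : Prop where
  hp : p.Prime
  hf : 0 < f
  sizes : ∀ g : G, cI g = 1 ∨ cI g = A ∨ cI g = p ^ f * E' ∨ cI g = D ∨ cI g = D'
  hA : ∃ g : G, cI g = A
  hE : ∃ g : G, cI g = p ^ f * E'
  hD : ∃ g : G, cI g = D
  hpA : ¬ p ∣ A
  hpE' : ¬ p ∣ E'
  primeA : ∃ r : ℕ, r.Prime ∧ r ∣ A ∧ r ≠ p ∧ ¬ r ∣ E'
  notBoth : ∀ r : ℕ, r.Prime → r ≠ p → r ∣ E' → ¬ r ∣ D
  one_lt : 1 < A ∧ 1 < D
  maxA : ∀ k ∈ ({p ^ f * E', D, D'} : Set ℕ), ¬ A ∣ k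
  maxE : ∀ k ∈ ({A, D, D'} : Set ℕ), ¬ p ^ f * E' ∣ k
  maxD : ∀ k ∈ ({A, p ^ f * E'} : Set ℕ), ¬ D ∣ k
  dvdD : D ∣ D'
  minA : ∀ k ∈ ({p ^ f * E', D, D'} : Set ℕ), ¬ k ∣ A
  minE : ∀ k ∈ ({A, D, D'} : Set ℕ), ¬ k ∣ p ^ f * E'
  minD : ∀ k ∈ ({A, p ^ f * E'} : Set ℕ), ¬ k ∣ D
  minD' : D' ∣ D → D' = D

namespace Sizes

variable {p f A E' D D' : ℕ} (S : Sizes G p f A E' D D')

include S

theorem eq_A_of_dvd (z : G) (h : A ∣ cI z) : cI z = A := by
  rcases S.sizes z with e | e | e | e | e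
  · rw [e] at h; have := S.one_lt.1; have := Nat.le_of_dvd one_pos h; omega
  · exact e
  · exact absurd (e ▸ h) (S.maxA _ (by simp))
  · exact absurd (e ▸ h) (S.maxA _ (by simp))
  · exact absurd (e ▸ h) (S.maxA _ (by simp))

theorem of_dvd_A (z : G) (h : cI z ∣ A) : cI z = 1 ∨ cI z = A := by
  rcases S.sizes z with e | e | e | e | e
  · exact Or.inl e
  · exact Or.inr e
  · exact absurd (e ▸ h) (S.minA _ (by simp))
  · exact absurd (e ▸ h) (S.minA _ (by simp))
  · exact absurd (e ▸ h) (S.minA _ (by simp))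

theorem one_lt_E : 1 < p ^ f * E' := by
  have h1 : 1 < p ^ f := Nat.one_lt_pow S.hf.ne' S.hp.one_lt
  have h2 : E' ≠ 0 := fun e => S.hpE' (e ▸ dvd_zero p)
  have := Nat.le_mul_of_pos_right (p ^ f) (Nat.pos_of_ne_zero h2)
  omega

theorem eq_E_of_dvd (z : G) (h : p ^ f * E' ∣ cI z) : cI z = p ^ f * E' := by
  rcases S.sizes z with e | e | e | e | e
  · rw [e] at h; have := S.one_lt_E; have := Nat.le_of_dvd one_pos h; omega
  · exact absurd (e ▸ h) (S.maxE _ (by simp))
  · exact e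
  · exact absurd (e ▸ h) (S.maxE _ (by simp))
  · exact absurd (e ▸ h) (S.maxE _ (by simp))

theorem of_dvd_E (z : G) (h : cI z ∣ p ^ f * E') : cI z = 1 ∨ cI z = p ^ f * E' := by
  rcases S.sizes z with e | e | e | e | e
  · exact Or.inl e
  · exact absurd (e ▸ h) (S.minE _ (by simp))
  · exact Or.inr e
  · exact absurd (e ▸ h) (S.minE _ (by simp))
  · exact absurd (e ▸ h) (S.minE _ (by simp))

theorem dvd_D'_of_dvd (z : G) (h : D ∣ cI z) : cI z ∣ D' := by
  rcases S.sizes z with e | e | e | e | e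
  · rw [e]; exact one_dvd _
  · exact absurd (e ▸ h) (S.maxD _ (by simp))
  · exact absurd (e ▸ h) (S.maxD _ (by simp))
  · rw [e]; exact S.dvdD
  · rw [e]

theorem of_dvd_D (z : G) (h : cI z ∣ D) : cI z = 1 ∨ cI z = D := by
  rcases S.sizes z with e | e | e | e | e
  · exact Or.inl e
  · exact absurd (e ▸ h) (S.minD _ (by simp))
  · exact absurd (e ▸ h) (S.minD _ (by simp))
  · exact Or.inr e
  · rw [e] at h ⊢; exact Or.inr (S.minD' h)

/-- For each prime but `p`, the companion property with a bound not divisible by `A`. -/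
theorem companion {r : ℕ} (hr : r.Prime) (hrp : r ≠ p) : ∃ M', ¬ A ∣ M' ∧
    ∀ y : G, IsREl r y → y ∉ center G →
      ∃ z, IsREl r z ∧ Commute y z ∧ z ∉ center G ∧ cI z ∣ M' := by
  by_cases h : r ∣ E'
  · refine ⟨D', S.maxA _ (by simp), fun y hy hyc => ?_⟩
    obtain ⟨g, hg⟩ := S.hD
    have hD1 : D ≠ 1 := by have := S.one_lt.2; omega
    obtain ⟨s, x, hs, hxs, hx⟩ := exists_primary_of_minimal hD1 S.of_dvd_D hg
    exact exists_companion hr hs (S.notBoth r hr hrp h) hxs hx hD1 S.dvd_D'_of_dvd hy hyc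
  · refine ⟨p ^ f * E', S.maxA _ (by simp), fun y hy hyc => ?_⟩
    obtain ⟨g, hg⟩ := S.hE
    have hE1 : p ^ f * E' ≠ 1 := by have := S.one_lt_E; omega
    obtain ⟨s, x, hs, hxs, hx⟩ := exists_primary_of_minimal hE1 S.of_dvd_E hg
    refine exists_companion hr hs ?_ hxs hx hE1 (fun z hz => dvd_of_eq (S.eq_E_of_dvd z hz)) hy hyc
    rw [hr.dvd_mul]
    rintro (h' | h')
    · exact hrp ((Nat.prime_dvd_prime_iff_eq hr S.hp).1 (hr.dvd_of_dvd_pow h'))
    · exact h h'

theorem companion_p {y : G} (hy : IsREl p y) (hyc : y ∉ center G) :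
    ∃ z, IsREl p z ∧ Commute y z ∧ z ∉ center G ∧ cI z ∣ A := by
  obtain ⟨g, hg⟩ := S.hA
  have hA1 : A ≠ 1 := by have := S.one_lt.1; omega
  obtain ⟨s, x, hs, hxs, hx⟩ := exists_primary_of_minimal hA1 S.of_dvd_A hg
  exact exists_companion S.hp hs S.hpA hxs hx hA1 (fun z hz => dvd_of_eq (S.eq_A_of_dvd z hz))
    hy hyc

/-- There is a `p`-element of size `A`. -/
theorem exists_pEl : ∃ x : G, IsREl p x ∧ cI x = A := by
  haveI := Fact.mk S.hp
  obtain ⟨P⟩ := (inferInstance : Nonempty (Sylow p G))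
  obtain ⟨y, hyP, hyc⟩ : ∃ y ∈ (P : Subgroup G), y ∉ center G := by
    by_contra hcon
    push Not at hcon
    obtain ⟨g, hg⟩ := S.hE
    have h1 : (P : Subgroup G) ≤ centralizer ({g} : Set G) := fun y hy =>
      center_le_centralizer g (hcon y hy)
    refine P.not_dvd_index ((?_ : p ∣ cI g).trans (index_dvd_of_le h1))
    rw [hg]
    exact Dvd.dvd.mul_right (dvd_pow_self p S.hf.ne') _
  have hy : IsREl p y := by
    obtain ⟨k, hk⟩ := P.2 ⟨y, hyP⟩
    exact ⟨k, by simpa using congrArg Subtype.val hk⟩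
  obtain ⟨z, hz, -, hzc, hzA⟩ := S.companion_p hy hyc
  exact ⟨z, hz, (S.of_dvd_A z hzA).resolve_left fun h => hzc (cI_eq_one_iff.1 h)⟩

theorem pos_A : A ≠ 0 := by have := S.one_lt.1; omega

/-- The order of the central quotient. -/
theorem index_center : (center G).index = p ^ f * A := by
  obtain ⟨x, hxs, hx⟩ := S.exists_pEl
  obtain ⟨r, hr, hrA, hrp, hrE⟩ := S.primeA
  -- an `r`-element of size `E`
  obtain ⟨z, hzs, hz⟩ : ∃ z : G, IsREl r z ∧ cI z = p ^ f * E' := by
    obtain ⟨g, hg⟩ := S.hE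
    have hE1 : p ^ f * E' ≠ 1 := by have := S.one_lt_E; omega
    obtain ⟨s, z, hs, hzs, hz⟩ := exists_primary_of_minimal hE1 S.of_dvd_E hg
    haveI := Fact.mk hr
    obtain ⟨P⟩ := (inferInstance : Nonempty (Sylow r G))
    obtain ⟨y, hyP, hyc⟩ : ∃ y ∈ (P : Subgroup G), y ∉ center G := by
      by_contra hcon
      push Not at hcon
      have h1 : (P : Subgroup G) ≤ centralizer ({x} : Set G) := fun y hy =>
        center_le_centralizer x (hcon y hy)
      exact P.not_dvd_index (((hx ▸ hrA : r ∣ cI x)).trans (index_dvd_of_le h1))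
    have hy : IsREl r y := by
      obtain ⟨k, hk⟩ := P.2 ⟨y, hyP⟩
      exact ⟨k, by simpa using congrArg Subtype.val hk⟩
    have hrnE : ¬ r ∣ p ^ f * E' := by
      rw [hr.dvd_mul]
      rintro (h' | h')
      · exact hrp ((Nat.prime_dvd_prime_iff_eq hr S.hp).1 (hr.dvd_of_dvd_pow h'))
      · exact hrE h'
    obtain ⟨w, hw, -, hwc, hwE⟩ := exists_companion hr hs hrnE hzs hz hE1
      (fun a ha => dvd_of_eq (S.eq_E_of_dvd a ha)) hy hyc
    exact ⟨w, hw, (S.of_dvd_E w hwE).resolve_left fun h => hwc (cI_eq_one_iff.1 h)⟩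
  -- the parts
  have hne : (center G).index ≠ 0 := index_ne_zero_of_finite
  have key : ∀ (s : ℕ) (g : G), s.Prime → ¬ s ∣ cQ g →
      (center G).index.factorization s = (cI g).factorization s := by
    intro s g hs h
    have h1 : cQ g ≠ 0 := fun e => by rw [← cQ_mul_cI g, e, zero_mul] at hne; exact hne rfl
    rw [← cQ_mul_cI g, Nat.factorization_mul h1 index_ne_zero_of_finite, Finsupp.add_apply,
      Nat.factorization_eq_zero_of_not_dvd h, zero_add]
  have hE0 : E' ≠ 0 := fun e => S.hpE' (e ▸ dvd_zero p)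
  have hpf : p ^ f ≠ 0 := pow_ne_zero _ S.hp.ne_zero
  refine Nat.eq_of_factorization_eq hne (mul_ne_zero hpf S.pos_A) fun s => ?_
  by_cases hs : s.Prime
  swap
  · rw [Nat.factorization_eq_zero_of_not_prime _ hs, Nat.factorization_eq_zero_of_not_prime _ hs]
  rw [Nat.factorization_mul hpf S.pos_A, Finsupp.add_apply, Nat.factorization_pow,
    Finsupp.smul_apply, S.hp.factorization]
  by_cases hsp : s = p
  · subst hsp
    rw [key s z hs (not_dvd_cQ hs fun y hy hyz => mem_center_of_isolated hs hr (Ne.symm hrp)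
      S.eq_E_of_dvd S.of_dvd_E (S.maxE A (by simp))
      (fun a ha hac => S.companion_p ha hac) hzs hz hy hyz), hz,
      Nat.factorization_mul hpf hE0, Finsupp.add_apply, Nat.factorization_pow, Finsupp.smul_apply,
      hs.factorization, Nat.factorization_eq_zero_of_not_dvd S.hpE',
      Nat.factorization_eq_zero_of_not_dvd S.hpA]
  · obtain ⟨M', hM', hcomp⟩ := S.companion hs hsp
    rw [key s x hs (not_dvd_cQ hs fun y hy hyx => mem_center_of_isolated hs S.hp hsp
      S.eq_A_of_dvd S.of_dvd_A hM' hcomp hxs hx hy hyx), hx, Finsupp.single_eq_of_ne hsp]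
    simp

/-- The centraliser orders modulo the centre. -/
theorem cQ_mul (g : G) : cQ g * cI g = p ^ f * A := by rw [cQ_mul_cI, S.index_center]

end Sizes

/-- When no prime of `c` divides the cofactor, the centraliser in the quotient is no larger. -/
theorem cC_mk_eq {g : G} {c d : ℕ} (hc : cQ g = c) (hn : (center G).index = c * d)
    (hco : c.Coprime d) : cC (QuotientGroup.mk' (center G) g) = c := by
  obtain ⟨j, hj, hs⟩ := exists_cC_mk g
  have hdvd : c * j ∣ c * d := by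
    rw [← hn, ← hc, ← hj]
    exact card_subgroup_dvd_card _
  have hc0 : 0 < c := Nat.pos_of_ne_zero fun e => by
    rw [e, zero_mul] at hn; exact index_ne_zero_of_finite hn
  have hjd : j ∣ d := Nat.dvd_of_mul_dvd_mul_left hc0 hdvd
  by_cases hj1 : j = 1
  · rw [hj, hj1, mul_one, hc]
  obtain ⟨s, hs', hsj⟩ := Nat.exists_prime_and_dvd hj1
  have h1 : s ∣ c := hc ▸ (hs s hs' hsj).trans (orderOf_mk_dvd_cQ g)
  exact absurd (Nat.dvd_gcd h1 (hsj.trans hjd)) (by rw [hco]; exact hs'.not_dvd_one)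

/-- When only the prime `2` is shared, and once, the centraliser at most doubles. -/
theorem cC_mk_cases {g : G} {c d : ℕ} (hc : cQ g = c) (hn : (center G).index = c * (2 * d))
    (hco : c.Coprime d) :
    cC (QuotientGroup.mk' (center G) g) = c ∨ cC (QuotientGroup.mk' (center G) g) = 2 * c := by
  obtain ⟨j, hj, hs⟩ := exists_cC_mk g
  have hdvd : c * j ∣ c * (2 * d) := by
    rw [← hn, ← hc, ← hj]
    exact card_subgroup_dvd_card _
  have hc0 : 0 < c := Nat.pos_of_ne_zero fun e => by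
    rw [e, zero_mul] at hn; exact index_ne_zero_of_finite hn
  have hjd : j ∣ 2 * d := Nat.dvd_of_mul_dvd_mul_left hc0 hdvd
  have hjco : j.Coprime d := Nat.coprime_of_dvd fun s hs' hsj hsd =>
    absurd (Nat.dvd_gcd (hc ▸ (hs s hs' hsj).trans (orderOf_mk_dvd_cQ g)) hsd)
      (by rw [hco]; exact hs'.not_dvd_one)
  rcases (Nat.dvd_prime Nat.prime_two).1 (hjco.dvd_of_dvd_mul_right hjd) with e | e
  · exact Or.inl (by rw [hj, e, mul_one, hc])
  · exact Or.inr (by rw [hj, e, hc]; ring)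

end CfsgLib.Recog.ClassSizesPSL
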